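import Cfsg.Agent.D1.Fam
import Mathlib.RepresentationTheory.Maschke
import Mathlib.RingTheory.SimpleModule.IsAlgClosed
import Mathlib.LinearAlgebra.Matrix.ToLin
import Mathlib.Data.Matrix.Basis
import Mathlib.Algebra.Group.ConjFinite

/-!
# D1 / CountLower : (A-lower) the `p'`-group count

Blueprint `notes/DefectOne_blueprint_helper7.md`, item (A-lower).  For a finite group `Q` whose
order is invertible in the algebraically closed field `k`, there is a family of pairwise
non-isomorphic irreducible `k`-representations of `Q` indexed by the conjugacy classes of `Q`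
(`d1_pprime_lower`).  Proof: Maschke + Wedderburn--Artin over an algebraically closed field give
`k[Q] ≃ Π_{j < m} M_{d j}(k)`; the `m` coordinate representations are irreducible and pairwise
non-isomorphic; the class sums inject the class functions into the centre, which is
`m`-dimensional, so `k(Q) ≤ m`.
-/

set_option autoImplicit false

namespace Cfsg.Agent.D1

open Representation

universe u

section general

variable {k : Type*} [Field k] {G : Type*} [Group G] {V W : Type*} [AddCommGroup V] [Module k V]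
  [AddCommGroup W] [Module k W]

theorem d1_cntl_sub_stable (ρ : Representation k G V) (S : Subrepresentation ρ)
    (a : MonoidAlgebra k G) {v : V} (hv : v ∈ S.toSubmodule) :
    ρ.asAlgebraHom a v ∈ S.toSubmodule := by
  induction a using MonoidAlgebra.induction_linear with
  | zero => simp
  | add x y hx hy => rw [map_add, LinearMap.add_apply]; exact S.toSubmodule.add_mem hx hy
  | single g c =>
    rw [Representation.asAlgebraHom_single]
    exact S.toSubmodule.smul_mem c (S.apply_mem_toSubmodule g hv)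

theorem d1_cntl_intertwine (ρ : Representation k G V) (σ : Representation k G W)
    (f : IntertwiningMap ρ σ) (a : MonoidAlgebra k G) (v : V) :
    f (ρ.asAlgebraHom a v) = σ.asAlgebraHom a (f v) := by
  induction a using MonoidAlgebra.induction_linear with
  | zero => simp
  | add x y hx hy => simp [map_add, hx, hy]
  | single g c =>
    rw [Representation.asAlgebraHom_single, Representation.asAlgebraHom_single]
    simp [IntertwiningMap.isIntertwining _ _ f g v]

theorem d1_cntl_not_equiv [Nontrivial V] (ρ : Representation k G V) (σ : Representation k G W)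
    (a : MonoidAlgebra k G) (h1 : ρ.asAlgebraHom a = LinearMap.id) (h2 : σ.asAlgebraHom a = 0) :
    IsEmpty (ρ.Equiv σ) := by
  refine ⟨fun e => ?_⟩
  obtain ⟨v, hv⟩ := exists_ne (0 : V)
  have h := d1_cntl_intertwine ρ σ e.toIntertwiningMap a v
  rw [h1, h2] at h
  simp only [LinearMap.id_coe, id_eq, LinearMap.zero_apply] at h
  exact hv (e.toLinearEquiv.injective (by rw [map_zero]; exact h))

theorem d1_cntl_irr_of_surj {d : ℕ} [NeZero d] (ρ : Representation k G (Fin d → k))
    (hs : Function.Surjective ρ.asAlgebraHom) : ρ.IsIrreducible := by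
  have : Nonempty (Fin d) := ⟨⟨0, Nat.pos_of_ne_zero (NeZero.ne d)⟩⟩
  have : Nontrivial (Fin d → k) := inferInstance
  refine { exists_pair_ne := ⟨⊥, ⊤, ?_⟩, eq_bot_or_eq_top := ?_ }
  · intro h
    have h' : (⊥ : Submodule k (Fin d → k)) = ⊤ := congrArg Subrepresentation.toSubmodule h
    exact bot_ne_top h'
  · intro S
    by_cases hS : S.toSubmodule = ⊥
    · left
      exact Subrepresentation.toSubmodule_injective hS
    · right
      apply Subrepresentation.toSubmodule_injective
      obtain ⟨v, hvS, hv0⟩ := Submodule.exists_mem_ne_zero_of_ne_bot hS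
      obtain ⟨i, hi⟩ : ∃ i, v i ≠ 0 := by
        by_contra hcon
        push Not at hcon
        exact hv0 (funext hcon)
      refine (Submodule.eq_top_iff'.2 fun w => ?_)
      obtain ⟨a, ha⟩ := hs (((v i)⁻¹ • (LinearMap.proj i : (Fin d → k) →ₗ[k] k)).smulRight w)
      have := d1_cntl_sub_stable ρ S a hvS
      rw [ha] at this
      simpa [hi] using this

end general

section count

variable {k : Type*} [Field k] {Q : Type*} [Group Q] [Fintype Q]

/-- the class-function-weighted sum in the group algebra. -/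
noncomputable def d1_cntl_z : (ConjClasses Q → k) →ₗ[k] MonoidAlgebra k Q :=
  ∑ g : Q, (LinearMap.proj (ConjClasses.mk g) : (ConjClasses Q → k) →ₗ[k] k).smulRight
    (MonoidAlgebra.single g (1 : k))

theorem d1_cntl_z_apply (f : ConjClasses Q → k) :
    d1_cntl_z f = ∑ g : Q, f (ConjClasses.mk g) • MonoidAlgebra.single g (1 : k) := by
  simp [d1_cntl_z, LinearMap.sum_apply]

theorem d1_cntl_z_coeff (f : ConjClasses Q → k) (h : Q) :
    (d1_cntl_z f).coeff h = f (ConjClasses.mk h) := by
  classical
  rw [d1_cntl_z_apply, MonoidAlgebra.coeff_sum, Finsupp.finsetSum_apply]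
  simp [MonoidAlgebra.coeff_single, Finsupp.single_apply]

theorem d1_cntl_z_injective : Function.Injective (d1_cntl_z : (ConjClasses Q → k) → _) := by
  intro f f' hff
  funext c
  obtain ⟨g, rfl⟩ := ConjClasses.mk_surjective c
  rw [← d1_cntl_z_coeff f g, ← d1_cntl_z_coeff f' g, hff]

theorem d1_cntl_z_comm_single (f : ConjClasses Q → k) (h : Q) :
    MonoidAlgebra.single h (1 : k) * d1_cntl_z f = d1_cntl_z f * MonoidAlgebra.single h (1 : k) := by
  rw [d1_cntl_z_apply, Finset.mul_sum, Finset.sum_mul]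
  refine Fintype.sum_equiv (MulAut.conj h).toEquiv _ _ fun g => ?_
  have hc : ConjClasses.mk (h * (g * h⁻¹)) = ConjClasses.mk g := by
    rw [ConjClasses.mk_eq_mk_iff_isConj]
    exact (isConj_iff.2 ⟨h, by rw [mul_assoc]⟩ : IsConj g (h * (g * h⁻¹))).symm
  simp [MonoidAlgebra.single_mul_single, hc, mul_assoc]

theorem d1_cntl_z_comm (f : ConjClasses Q → k) (a : MonoidAlgebra k Q) :
    a * d1_cntl_z f = d1_cntl_z f * a := by
  induction a using MonoidAlgebra.induction_linear with
  | zero => simp
  | add x y hx hy => rw [add_mul, mul_add, hx, hy]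
  | single g c =>
    have : MonoidAlgebra.single g c = c • MonoidAlgebra.single g (1 : k) := by
      rw [MonoidAlgebra.smul_single, smul_eq_mul, mul_one]
    rw [this, smul_mul_assoc, mul_smul_comm, d1_cntl_z_comm_single]

variable {m : ℕ} {d : Fin m → ℕ} [∀ i, NeZero (d i)]

theorem d1_cntl_scalar (E : MonoidAlgebra k Q ≃ₐ[k] Π i, Matrix (Fin (d i)) (Fin (d i)) k)
    (f : ConjClasses Q → k) (j : Fin m) :
    E (d1_cntl_z f) j = Matrix.scalar (Fin (d j)) (E (d1_cntl_z f) j 0 0) := by
  classical
  have hcomm : ∀ M : Matrix (Fin (d j)) (Fin (d j)) k, Commute M (E (d1_cntl_z f) j) := by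
    intro M
    have h := congrArg E (d1_cntl_z_comm f (E.symm (Pi.single j M)))
    rw [map_mul, map_mul, AlgEquiv.apply_symm_apply] at h
    have h' := congrFun h j
    simpa [Pi.mul_apply, Commute, SemiconjBy] using h'
  obtain ⟨c, hc⟩ := Matrix.mem_range_scalar_iff_commute_single'.2 (fun a b => hcomm _)
  rw [← hc]
  simp

theorem d1_cntl_card_le (E : MonoidAlgebra k Q ≃ₐ[k] Π i, Matrix (Fin (d i)) (Fin (d i)) k) :
    Nat.card (ConjClasses Q) ≤ m := by
  classical
  let : Fintype (ConjClasses Q) := Fintype.ofFinite _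
  let L : (ConjClasses Q → k) →ₗ[k] (Fin m → k) :=
    LinearMap.pi fun j => (Matrix.entryLinearMap k k (0 : Fin (d j)) (0 : Fin (d j))) ∘ₗ
      (LinearMap.proj j : (Π i, Matrix (Fin (d i)) (Fin (d i)) k) →ₗ[k] _) ∘ₗ
      E.toLinearMap ∘ₗ d1_cntl_z
  have hL : Function.Injective L := by
    rw [← LinearMap.ker_eq_bot, LinearMap.ker_eq_bot']
    intro f hf
    apply d1_cntl_z_injective
    rw [map_zero]
    apply E.injective
    rw [map_zero]
    funext j
    rw [d1_cntl_scalar E f j]
    have : E (d1_cntl_z f) j 0 0 = 0 := congrFun hf j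
    rw [this]
    simp
  have h := LinearMap.finrank_le_finrank_of_injective hL
  rw [Module.finrank_fintype_fun_eq_card, Module.finrank_fintype_fun_eq_card, Fintype.card_fin] at h
  rwa [Nat.card_eq_fintype_card]

end count

section main

variable {k : Type*} [Field k] {Q : Type*} [Group Q]
variable {m : ℕ} {d : Fin m → ℕ}

/-- the `j`-th Wedderburn component as an algebra map to endomorphisms. -/
noncomputable def d1_cntl_Phi (E : MonoidAlgebra k Q ≃ₐ[k] Π i, Matrix (Fin (d i)) (Fin (d i)) k)
    (j : Fin m) : MonoidAlgebra k Q →ₐ[k] Module.End k (Fin (d j) → k) :=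
  ((Matrix.toLinAlgEquiv' : Matrix (Fin (d j)) (Fin (d j)) k ≃ₐ[k] _).toAlgHom).comp
    ((Pi.evalAlgHom k (fun i => Matrix (Fin (d i)) (Fin (d i)) k) j).comp E.toAlgHom)

/-- the `j`-th Wedderburn component as a representation. -/
noncomputable def d1_cntl_rho (E : MonoidAlgebra k Q ≃ₐ[k] Π i, Matrix (Fin (d i)) (Fin (d i)) k)
    (j : Fin m) : Representation k Q (Fin (d j) → k) :=
  (MonoidAlgebra.lift k (Module.End k (Fin (d j) → k)) Q).symm (d1_cntl_Phi E j)

theorem d1_cntl_rho_asAlgebraHom
    (E : MonoidAlgebra k Q ≃ₐ[k] Π i, Matrix (Fin (d i)) (Fin (d i)) k) (j : Fin m) :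
    (d1_cntl_rho E j).asAlgebraHom = d1_cntl_Phi E j := by
  rw [Representation.asAlgebraHom_def]
  exact (MonoidAlgebra.lift k (Module.End k (Fin (d j) → k)) Q).apply_symm_apply (d1_cntl_Phi E j)

theorem d1_cntl_Phi_apply (E : MonoidAlgebra k Q ≃ₐ[k] Π i, Matrix (Fin (d i)) (Fin (d i)) k)
    (j : Fin m) (a : MonoidAlgebra k Q) :
    d1_cntl_Phi E j a = Matrix.toLinAlgEquiv' (E a j) := rfl

theorem d1_cntl_Phi_surjective
    (E : MonoidAlgebra k Q ≃ₐ[k] Π i, Matrix (Fin (d i)) (Fin (d i)) k) (j : Fin m) :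
    Function.Surjective (d1_cntl_Phi E j) := by
  classical
  intro T
  obtain ⟨M, rfl⟩ := (Matrix.toLinAlgEquiv' : Matrix (Fin (d j)) (Fin (d j)) k ≃ₐ[k] _).surjective T
  refine ⟨E.symm (Pi.single j M), ?_⟩
  rw [d1_cntl_Phi_apply, AlgEquiv.apply_symm_apply, Pi.single_eq_same]

theorem d1_cntl_idem_same
    (E : MonoidAlgebra k Q ≃ₐ[k] Π i, Matrix (Fin (d i)) (Fin (d i)) k) (j : Fin m) :
    d1_cntl_Phi E j (E.symm (Pi.single j 1)) = LinearMap.id := by
  rw [d1_cntl_Phi_apply, AlgEquiv.apply_symm_apply, Pi.single_eq_same, map_one]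
  rfl

theorem d1_cntl_idem_ne
    (E : MonoidAlgebra k Q ≃ₐ[k] Π i, Matrix (Fin (d i)) (Fin (d i)) k) {i j : Fin m}
    (hij : j ≠ i) :
    d1_cntl_Phi E j (E.symm (Pi.single i 1)) = 0 := by
  rw [d1_cntl_Phi_apply, AlgEquiv.apply_symm_apply, Pi.single_eq_of_ne hij, map_zero]

end main

theorem d1_pprime_lower {k : Type} [Field k] [IsAlgClosed k] {Q : Type u} [Group Q] [Finite Q]
    (hQ : (Nat.card Q : k) ≠ 0) : Nonempty (d1_Fam.{0} k Q (ConjClasses Q)) := by
  classical
  have : NeZero (Nat.card Q : k) := ⟨hQ⟩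
  let : Fintype Q := Fintype.ofFinite Q
  let : Fintype (ConjClasses Q) := Fintype.ofFinite _
  have : IsSemisimpleRing (MonoidAlgebra k Q) := inferInstance
  have : FiniteDimensional k (MonoidAlgebra k Q) := inferInstance
  obtain ⟨m, d, hd, ⟨E⟩⟩ :=
    IsSemisimpleRing.exists_algEquiv_pi_matrix_of_isAlgClosed k (MonoidAlgebra k Q)
  have := hd
  have hcard : Fintype.card (ConjClasses Q) ≤ Fintype.card (Fin m) := by
    rw [Fintype.card_fin, ← Nat.card_eq_fintype_card]
    exact d1_cntl_card_le E
  obtain ⟨emb⟩ := Function.Embedding.nonempty_of_card_le hcard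
  have hnt : ∀ j : Fin m, Nontrivial (Fin (d j) → k) := fun j => by
    have : Nonempty (Fin (d j)) := ⟨⟨0, Nat.pos_of_ne_zero (NeZero.ne (d j))⟩⟩
    infer_instance
  refine ⟨{ V := fun c => Fin (d (emb c)) → k
            ρ := fun c => d1_cntl_rho E (emb c)
            irr := fun c => ?_
            pni := fun c c' hcc => ?_ }⟩
  · apply d1_cntl_irr_of_surj
    rw [d1_cntl_rho_asAlgebraHom]
    exact d1_cntl_Phi_surjective E (emb c)
  · by_contra hne
    have hne' : emb c' ≠ emb c := fun h => hne (emb.injective h).symm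
    have := hnt (emb c)
    have := d1_cntl_not_equiv (d1_cntl_rho E (emb c)) (d1_cntl_rho E (emb c'))
      (E.symm (Pi.single (emb c) 1))
      (by rw [d1_cntl_rho_asAlgebraHom]; exact d1_cntl_idem_same E (emb c))
      (by rw [d1_cntl_rho_asAlgebraHom]; exact d1_cntl_idem_ne E hne')
    exact this.false hcc.some

end Cfsg.Agent.D1
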