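import Mathlib.RepresentationTheory.Irreducible
import Mathlib.LinearAlgebra.FiniteDimensional.Defs

/-!
# D1 / Fam : finite families of pairwise non-isomorphic irreducible representations

Blueprint `notes/DefectOne_blueprint_helper7.md`.  The common currency of `D1/Count*`, `D1/Green`,
`D1/DefZero`.
-/

set_option autoImplicit false

namespace Cfsg.Agent.D1

open Representation

universe w

/-- a family, indexed by `ι`, of pairwise non-isomorphic irreducible finite-dimensional
representations of `G` over `k`, on spaces in the universe `w`. -/
structure d1_Fam (k : Type*) [Field k] (G : Type*) [Group G] (ι : Type*) where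
  V : ι → Type w
  [acg : ∀ i, AddCommGroup (V i)]
  [mod : ∀ i, Module k (V i)]
  [fd : ∀ i, FiniteDimensional k (V i)]
  ρ : ∀ i, Representation k G (V i)
  irr : ∀ i, (ρ i).IsIrreducible
  pni : ∀ i j, Nonempty ((ρ i).Equiv (ρ j)) → i = j

attribute [instance] d1_Fam.acg d1_Fam.mod d1_Fam.fd

end Cfsg.Agent.D1
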