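import Mathlib
import Cfsg.Agent.D1.Fam

/-!
# Defect-one project, (A-upper): Brauer's count

A finite family of pairwise non-isomorphic irreducible finite-dimensional representations of a
finite group `G` over an algebraically closed field of characteristic `p` has at most as many
members as `G` has `p`-regular conjugacy classes.

Proof: the trace functions `g ↦ tr ρ_i(g)` are class functions which only depend on the `p'`-part of
`g`, and they are linearly independent (Jacobson density for `⨁ V_i` + Schur).
-/

set_option autoImplicit false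

namespace Cfsg.Agent.D1

universe w

open Module (End)

section separate

variable {k : Type*} [Field k] [IsAlgClosed k] {A : Type*} [Ring A] [Algebra k A]
  {ι : Type*} [Finite ι] (V : ι → Type w) [∀ i, AddCommGroup (V i)] [∀ i, Module k (V i)]
  [∀ i, Module A (V i)] [∀ i, IsScalarTower k A (V i)] [∀ i, IsSimpleModule A (V i)]
  [∀ i, FiniteDimensional k (V i)]

/-- components of an `A`-endomorphism of a product of pairwise non-isomorphic simple modules -/
theorem d1_cnt_end_pi [DecidableEq ι] (hne : ∀ i j, Nonempty (V i ≃ₗ[A] V j) → i = j) (i : ι)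
    (φ : End A (Π j, V j)) :
    ∃ c : k, (∀ m : Π j, V j, (φ m) i = c • m i) ∧
      ∀ v : V i, φ (Pi.single i v) = Pi.single i (c • v) := by
  have := Fintype.ofFinite ι
  obtain ⟨c, hc⟩ := (IsSimpleModule.algebraMap_end_bijective_of_isAlgClosed (A := A)
    (V := V i) k).2 ((LinearMap.proj i) ∘ₗ φ ∘ₗ (LinearMap.single A V i))
  have hoff : ∀ j l, j ≠ l → ∀ v : V l, (φ (Pi.single l v)) j = 0 := by
    intro j l hjl v
    rcases LinearMap.bijective_or_eq_zero
      ((LinearMap.proj j) ∘ₗ φ ∘ₗ (LinearMap.single A V l) : V l →ₗ[A] V j) with h | h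
    · exact absurd (hne l j ⟨LinearEquiv.ofBijective _ h⟩).symm hjl
    · exact congrArg (fun f : V l →ₗ[A] V j => f v) h
  have hdiag : ∀ v : V i, (φ (Pi.single i v)) i = c • v := by
    intro v
    have := congrArg (fun f : End A (V i) => f v) hc
    simpa [Algebra.algebraMap_eq_smul_one] using this.symm
  refine ⟨c, ?_, ?_⟩
  · intro m
    have hm : m = ∑ l, Pi.single l (m l) := (Finset.univ_sum_single m).symm
    conv_lhs => rw [hm]
    rw [map_sum, Finset.sum_apply, Finset.sum_eq_single i]
    · exact hdiag (m i)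
    · intro l _ hl
      exact hoff i l hl.symm (m l)
    · intro h
      exact absurd (Finset.mem_univ i) h
  · intro v
    funext j
    by_cases hj : j = i
    · subst hj
      rw [Pi.single_eq_same]
      exact hdiag v
    · rw [Pi.single_eq_of_ne hj]
      exact hoff j i hj v

/-- **separation** (Jacobson density + Schur): for pairwise non-isomorphic finite-dimensional
simple modules `V_j` over an algebra `A` over an algebraically closed field, any `k`-endomorphism
`E` of `V_i` is induced by an element of `A` which kills all the other `V_j`. -/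
theorem d1_cnt_separate (hne : ∀ i j, Nonempty (V i ≃ₗ[A] V j) → i = j) (i : ι)
    (E : V i →ₗ[k] V i) :
    ∃ a : A, (∀ v : V i, a • v = E v) ∧ ∀ j, j ≠ i → ∀ v : V j, a • v = 0 := by
  classical
  have := Fintype.ofFinite ι
  let f : End (End A (Π j, V j)) (Π j, V j) :=
    { toFun := fun m => Pi.single i (E (m i))
      map_add' := by
        intro m m'
        rw [Pi.add_apply, map_add, Pi.single_add]
      map_smul' := by
        intro φ m
        obtain ⟨c, h1, h2⟩ := d1_cnt_end_pi (k := k) V hne i φ
        simp only [RingHom.id_apply, Module.End.smul_def]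
        rw [h1, h2, map_smul] }
  have : Module.Finite (End A (Π j, V j)) (Π j, V j) :=
    Module.Finite.of_restrictScalars_finite k (End A (Π j, V j)) (Π j, V j)
  obtain ⟨a, ha⟩ := Module.Finite.toModuleEnd_moduleEnd_surjective (R := A) f
  have ha' : ∀ m : Π j, V j, a • m = Pi.single i (E (m i)) := by
    intro m
    have := congrArg (fun g : End (End A (Π j, V j)) (Π j, V j) => g m) ha
    exact this
  refine ⟨a, ?_, ?_⟩
  · intro v
    have := congrFun (ha' (Pi.single i v)) i
    rw [Pi.smul_apply, Pi.single_eq_same, Pi.single_eq_same] at this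
    exact this
  · intro j hj v
    have := congrFun (ha' (Pi.single j v)) j
    rw [Pi.smul_apply, Pi.single_eq_same, Pi.single_eq_of_ne (Ne.symm hj), map_zero,
      Pi.single_zero] at this
    simpa using this

end separate

section ppart

variable {G : Type*} [Group G] [Finite G]

/-- the `p'`-part of an element: `g = s * u` with `s` `p`-regular, `u` a `p`-element, commuting -/
theorem d1_cnt_exists_pprime_part (p : ℕ) [hp : Fact p.Prime] (g : G) :
    ∃ s u : G, g = s * u ∧ Commute s u ∧ ¬ p ∣ orderOf s ∧ ∃ n : ℕ, u ^ (p ^ n) = 1 := by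
  have hpos : 0 < orderOf g := orderOf_pos g
  obtain ⟨a, m, hm, hn⟩ := Nat.exists_eq_pow_mul_and_not_dvd hpos.ne' p hp.out.ne_one
  have hcop : Nat.Coprime (p ^ a) m := by
    apply Nat.Coprime.pow_left
    exact (Nat.Prime.coprime_iff_not_dvd hp.out).mpr hm
  have hbez : ((p ^ a : ℕ) : ℤ) * Nat.gcdA (p ^ a) m + (m : ℤ) * Nat.gcdB (p ^ a) m = 1 := by
    have := Nat.gcd_eq_gcd_ab (p ^ a) m
    rw [hcop.gcd_eq_one] at this
    exact_mod_cast this.symm
  set x : ℤ := Nat.gcdA (p ^ a) m
  set y : ℤ := Nat.gcdB (p ^ a) m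
  refine ⟨g ^ (((p ^ a : ℕ) : ℤ) * x), g ^ ((m : ℤ) * y), ?_, ?_, ?_, a, ?_⟩
  · rw [← zpow_add, hbez, zpow_one]
  · exact (Commute.refl g).zpow_zpow _ _
  · have h1 : (g ^ (((p ^ a : ℕ) : ℤ) * x)) ^ m = 1 := by
      rw [← zpow_natCast, ← zpow_mul]
      have : ((p ^ a : ℕ) : ℤ) * x * (m : ℤ) = ((orderOf g : ℕ) : ℤ) * x := by
        rw [hn]; push_cast; ring
      rw [this, zpow_mul, zpow_natCast, pow_orderOf_eq_one, one_zpow]
    intro hdvd
    exact hm (hdvd.trans (orderOf_dvd_of_pow_eq_one h1))
  · rw [← zpow_natCast, ← zpow_mul]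
    have : (m : ℤ) * y * ((p ^ a : ℕ) : ℤ) = ((orderOf g : ℕ) : ℤ) * y := by
      rw [hn]; push_cast; ring
    rw [this, zpow_mul, zpow_natCast, pow_orderOf_eq_one, one_zpow]

end ppart

section trace

variable {k : Type*} [Field k] {G : Type*} [Group G] {V : Type*} [AddCommGroup V] [Module k V]

theorem d1_cnt_trace_conj (ρ : Representation k G V) (g h : G) :
    LinearMap.trace k V (ρ (h * g * h⁻¹)) = LinearMap.trace k V (ρ g) := by
  rw [show ρ (h * g * h⁻¹) = ρ h * (ρ g * ρ h⁻¹) by rw [mul_assoc, map_mul, map_mul],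
    LinearMap.trace_mul_comm, mul_assoc, ← map_mul, inv_mul_cancel, map_one, mul_one]

theorem d1_cnt_trace_pprime (p : ℕ) [hp : Fact p.Prime] [CharP k p] (ρ : Representation k G V)
    (s u : G) (hsu : Commute s u) (n : ℕ) (hu : u ^ (p ^ n) = 1) :
    LinearMap.trace k V (ρ (s * u)) = LinearMap.trace k V (ρ s) := by
  rcases subsingleton_or_nontrivial V with hV | hV
  · have : ρ (s * u) = ρ s := LinearMap.ext fun v => Subsingleton.elim _ _
    rw [this]
  · have hinj : Function.Injective (algebraMap k (Module.End k V)) :=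
      (algebraMap k (Module.End k V)).injective
    have : CharP (Module.End k V) p := charP_of_injective_algebraMap hinj p
    have hcomm : Commute (ρ s) (ρ u - 1) := by
      apply Commute.sub_right
      · exact hsu.map ρ
      · exact Commute.one_right _
    have hnil : IsNilpotent (ρ s * (ρ u - 1)) := by
      refine ⟨p ^ n, ?_⟩
      rw [hcomm.mul_pow, sub_pow_char_pow_of_commute p n (Commute.one_right (ρ u)), ← map_pow ρ u,
        hu, map_one, one_pow, sub_self, mul_zero]
    have h0 : LinearMap.trace k V (ρ s * (ρ u - 1)) = 0 :=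
      (LinearMap.isNilpotent_trace_of_isNilpotent hnil).eq_zero
    have : ρ (s * u) = ρ s + ρ s * (ρ u - 1) := by
      rw [map_mul, mul_sub, mul_one]; abel
    rw [this, map_add, h0, add_zero]

theorem d1_cnt_sum_trace_eq_zero {ι : Type*} [Fintype ι] (V : ι → Type w)
    [∀ i, AddCommGroup (V i)] [∀ i, Module k (V i)] (ρ : ∀ i, Representation k G (V i))
    (c : ι → k) (h : ∀ g, ∑ j, c j * LinearMap.trace k (V j) (ρ j g) = 0)
    (a : MonoidAlgebra k G) :
    ∑ j, c j * LinearMap.trace k (V j) ((ρ j).asAlgebraHom a) = 0 := by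
  induction a using MonoidAlgebra.induction_on with
  | of g =>
    simp only [Representation.asAlgebraHom_of]
    exact h g
  | add a b ha hb =>
    simp only [map_add, mul_add, Finset.sum_add_distrib, ha, hb, add_zero]
  | smul r a ha =>
    simp only [map_smul, smul_eq_mul]
    have : ∀ j, c j * (r * LinearMap.trace k (V j) ((ρ j).asAlgebraHom a)) =
        r * (c j * LinearMap.trace k (V j) ((ρ j).asAlgebraHom a)) := fun j => by ring
    simp only [this, ← Finset.mul_sum, ha, mul_zero]

end trace

section main

variable {k : Type*} [Field k] {G : Type*} [Group G]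

/-- the trace function of a representation -/
noncomputable def d1_cnt_tau {V : Type*} [AddCommGroup V] [Module k V] (ρ : Representation k G V) :
    G → k := fun g => LinearMap.trace k V (ρ g)

/-- an endomorphism of trace one of a nonzero finite-dimensional space -/
theorem d1_cnt_exists_trace_one (V : Type*) [AddCommGroup V] [Module k V] [FiniteDimensional k V]
    [Nontrivial V] : ∃ E : V →ₗ[k] V, LinearMap.trace k V E = 1 := by
  obtain ⟨v, hv⟩ := exists_ne (0 : V)
  have : ∃ f : Module.Dual k V, f v ≠ 0 := by
    by_contra hcon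
    push_neg at hcon
    exact hv ((Module.forall_dual_apply_eq_zero_iff k v).mp hcon)
  obtain ⟨f, hf⟩ := this
  refine ⟨((f v)⁻¹ • f).smulRight v, ?_⟩
  rw [LinearMap.trace_smulRight, LinearMap.smul_apply, smul_eq_mul, inv_mul_cancel₀ hf]

/-- the trace functions of pairwise non-isomorphic irreducible representations over an
algebraically closed field are linearly independent -/
theorem d1_cnt_tau_linearIndependent [IsAlgClosed k] {ι : Type*} [Finite ι]
    (F : d1_Fam.{w} k G ι) : LinearIndependent k (fun i => d1_cnt_tau (F.ρ i)) := by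
  classical
  have := Fintype.ofFinite ι
  rw [Fintype.linearIndependent_iff]
  intro c hc i
  letI : ∀ j, Module (MonoidAlgebra k G) (F.V j) := fun j =>
    inferInstanceAs (Module (MonoidAlgebra k G) (F.ρ j).asModule)
  haveI : ∀ j, IsScalarTower k (MonoidAlgebra k G) (F.V j) := fun j =>
    inferInstanceAs (IsScalarTower k (MonoidAlgebra k G) (F.ρ j).asModule)
  haveI : ∀ j, IsSimpleModule (MonoidAlgebra k G) (F.V j) := fun j => by
    haveI := F.irr j
    exact inferInstanceAs (IsSimpleModule (MonoidAlgebra k G) (F.ρ j).asModule)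
  have hsmul : ∀ j (a : MonoidAlgebra k G) (v : F.V j), a • v = (F.ρ j).asAlgebraHom a v :=
    fun j a v => rfl
  have hne : ∀ i j, Nonempty (F.V i ≃ₗ[MonoidAlgebra k G] F.V j) → i = j := by
    rintro i j ⟨e⟩
    apply F.pni
    refine ⟨Representation.Equiv.mk (e.restrictScalars k) ?_⟩
    intro g
    ext v
    have := e.map_smul (MonoidAlgebra.of k G g) v
    rw [hsmul, hsmul, Representation.asAlgebraHom_of, Representation.asAlgebraHom_of] at this
    exact this
  haveI : Nontrivial (F.V i) := IsSimpleModule.nontrivial (MonoidAlgebra k G) (F.V i)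
  obtain ⟨E, hE⟩ := d1_cnt_exists_trace_one (k := k) (F.V i)
  obtain ⟨a, ha1, ha2⟩ := d1_cnt_separate (k := k) F.V hne i E
  have hsum := d1_cnt_sum_trace_eq_zero F.V F.ρ c (fun g => by
    have := congrFun hc g
    simpa [Finset.sum_apply, d1_cnt_tau] using this) a
  have h1 : (F.ρ i).asAlgebraHom a = E := LinearMap.ext fun v => (hsmul i a v).symm.trans (ha1 v)
  have h2 : ∀ j, j ≠ i → (F.ρ j).asAlgebraHom a = 0 := fun j hj =>
    LinearMap.ext fun v => (hsmul j a v).symm.trans (ha2 j hj v)
  rw [Finset.sum_eq_single i, h1, hE, mul_one] at hsum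
  · exact hsum
  · intro j _ hj
    rw [h2 j hj, map_zero, mul_zero]
  · intro h
    exact absurd (Finset.mem_univ i) h

/-- (A-upper) Brauer: at most as many simple modules as `p`-regular classes. -/
theorem d1_brauer_upper {k : Type*} [Field k] [IsAlgClosed k] (p : ℕ) [Fact p.Prime] [CharP k p]
    {G : Type*} [Group G] [Finite G] {ι : Type*} [Finite ι] (F : d1_Fam.{w} k G ι) :
    Nat.card ι ≤ Nat.card {c : ConjClasses G // ∃ g : G, ConjClasses.mk g = c ∧ ¬ p ∣ orderOf g} := by
  classical
  have := Fintype.ofFinite ι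
  have := Fintype.ofFinite G
  set X := {c : ConjClasses G // ∃ g : G, ConjClasses.mk g = c ∧ ¬ p ∣ orderOf g} with hX
  have : Fintype X := Fintype.ofFinite X
  let rep : X → G := fun x => x.2.choose
  have hrep : ∀ x : X, ConjClasses.mk (rep x) = x.1 ∧ ¬ p ∣ orderOf (rep x) :=
    fun x => x.2.choose_spec
  -- restriction to representatives of the `p`-regular classes
  have hli := d1_cnt_tau_linearIndependent F
  have hli' : LinearIndependent k (fun i => (LinearMap.funLeft k k rep) (d1_cnt_tau (F.ρ i))) := by
    rw [Fintype.linearIndependent_iff] at hli ⊢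
    intro c hc
    apply hli c
    funext g
    obtain ⟨s, u, hg, hsu, hs, n, hu⟩ := d1_cnt_exists_pprime_part p g
    let x : X := ⟨ConjClasses.mk s, s, rfl, hs⟩
    have hconj : IsConj (rep x) s := ConjClasses.mk_eq_mk_iff_isConj.mp (hrep x).1
    obtain ⟨h, hh⟩ := isConj_iff.mp hconj
    have hval : ∀ j, d1_cnt_tau (F.ρ j) g = d1_cnt_tau (F.ρ j) (rep x) := by
      intro j
      unfold d1_cnt_tau
      rw [hg, d1_cnt_trace_pprime p (F.ρ j) s u hsu n hu, ← hh, d1_cnt_trace_conj]
    have := congrFun hc x
    simp only [Finset.sum_apply, Pi.smul_apply, LinearMap.funLeft_apply, Pi.zero_apply] at this ⊢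
    rw [← this]
    exact Finset.sum_congr rfl fun j _ => by rw [hval j]
  have hle := hli'.fintype_card_le_finrank
  rw [Module.finrank_fintype_fun_eq_card] at hle
  rw [Nat.card_eq_fintype_card, Nat.card_eq_fintype_card]
  exact hle

end main

end Cfsg.Agent.D1
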