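import Mathlib
import Cfsg.Agent.BP.BlockBar
import Cfsg.Agent.BP.RlocInst
import Cfsg.Agent.Helper6.DeficiencyClassA
import Cfsg.Agent.Helper6.DefectZeroBlock
import Cfsg.Agent.Helper6.Osima3
import Cfsg.Agent.Helper6.BlockUnion
import Cfsg.Agent.Helper6.CharBasic

/-!
# Defect-one track / DefZero, part A: the block idempotent of a character of defect zero

* `d1_dz_memLocalIdeal_blockCoeff` : for `χ` of `p`-defect zero the coefficient `χ(1)χ(g⁻¹)/|G|` of its block
  idempotent lies in the local ideal as soon as `p` divides `|C_G(g)|`;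
* `d1_dz_coeff_eq_zero` : hence the reduction `bp_blockBar {χ}` is supported on the classes of defect zero.
-/

set_option autoImplicit false

namespace Cfsg.Agent.D1

open Cfsg.Agent.Helper6 Cfsg.Agent.Helper6.Cov Cfsg.Agent.BP

open scoped ComplexConjugate

universe u

variable {G : Type u} [Group G] {M : Ideal Cfsg.AlgInt}

/-- the coefficient of the idempotent of a character of defect zero, through the central character -/
theorem d1_dz_blockCoeff_eq [Finite G] (χ : Cfsg.IrrCharacter G) (g : G) :
    Cfsg.blockCoeff ({χ} : Set (Cfsg.IrrCharacter G)) g =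
      Cfsg.centralChar (χ : G → ℂ) g⁻¹ *
        (((Cfsg.charDegree (χ : G → ℂ) ^ 2 *
          Nat.card (Subgroup.centralizer ({g⁻¹} : Set G)) : ℕ) : ℂ) / ((Nat.card G ^ 2 : ℕ) : ℂ)) := by
  have hχ := IsIrrCharacter.isCharacter χ.2
  have hdeg : (Cfsg.charDegree (χ : G → ℂ) : ℂ) = (χ : G → ℂ) 1 := charDegree_cast_of_isCharacter hχ
  have hχ1 : (χ : G → ℂ) 1 ≠ 0 := IsIrrCharacter.apply_one_ne_zero χ.2
  have hG0 : (Nat.card G : ℂ) ≠ 0 := by
    have : 0 < Nat.card G := Nat.card_pos
    exact_mod_cast this.ne'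
  have hidx : ((Subgroup.centralizer ({g⁻¹} : Set G)).index : ℂ) *
      (Nat.card (Subgroup.centralizer ({g⁻¹} : Set G)) : ℂ) = (Nat.card G : ℂ) := by
    have := Subgroup.index_mul_card (Subgroup.centralizer ({g⁻¹} : Set G))
    exact_mod_cast this
  have hC0 : (Nat.card (Subgroup.centralizer ({g⁻¹} : Set G)) : ℂ) ≠ 0 := by
    have : 0 < Nat.card (Subgroup.centralizer ({g⁻¹} : Set G)) := Nat.card_pos
    exact_mod_cast this.ne'
  rw [blockCoeff_singleton, ← IsCharacter.inv_eq_conj hχ g]
  unfold Cfsg.centralChar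
  push_cast
  rw [hdeg]
  have hidx' : ((Subgroup.centralizer ({g⁻¹} : Set G)).index : ℂ) =
      (Nat.card G : ℂ) / (Nat.card (Subgroup.centralizer ({g⁻¹} : Set G)) : ℂ) := by
    rw [← hidx]; field_simp
  rw [hidx']
  field_simp

/-- **valuation of the idempotent of a character of defect zero** -/
theorem d1_dz_memLocalIdeal_blockCoeff [Finite G] {p : ℕ} [hp : Fact p.Prime]
    (hM : Cfsg.IsPModular p M) (χ : Cfsg.IrrCharacter G)
    (hχ : p ^ (Nat.card G).factorization p ∣ Cfsg.charDegree (χ : G → ℂ)) (g : G)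
    (hg : p ∣ Nat.card (Subgroup.centralizer ({g} : Set G))) :
    Cfsg.MemLocalIdeal M (Cfsg.blockCoeff ({χ} : Set (Cfsg.IrrCharacter G)) g) := by
  rw [d1_dz_blockCoeff_eq]
  apply MemLocalIdeal.mul_left hM.2.1
  · exact memLocalRing_of_isIntegral hM.2.1 (isIntegral_centralChar χ g⁻¹)
  · have hcent : Subgroup.centralizer ({g⁻¹} : Set G) = Subgroup.centralizer ({g} : Set G) := by
      ext x
      simp only [Subgroup.mem_centralizer_iff, Set.mem_singleton_iff, forall_eq]
      constructor
      · intro h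
        have : x * g⁻¹ = g⁻¹ * x := h.symm
        calc g * x = g * (x * g⁻¹) * g := by group
          _ = g * (g⁻¹ * x) * g := by rw [this]
          _ = x * g := by group
      · intro h
        have : x * g = g * x := h.symm
        calc g⁻¹ * x = g⁻¹ * (x * g) * g⁻¹ := by group
          _ = g⁻¹ * (g * x) * g⁻¹ := by rw [this]
          _ = x * g⁻¹ := by group
    rw [hcent]
    have hd0 : Cfsg.charDegree (χ : G → ℂ) ≠ 0 := by
      intro h0
      have := charDegree_cast_of_isCharacter (IsIrrCharacter.isCharacter χ.2)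
      rw [h0] at this
      exact IsIrrCharacter.apply_one_ne_zero χ.2 (by simpa using this.symm)
    have hC0 : Nat.card (Subgroup.centralizer ({g} : Set G)) ≠ 0 := Nat.card_pos.ne'
    have hG0 : Nat.card G ≠ 0 := Nat.card_pos.ne'
    apply memLocalIdeal_natCast_div_of_lt hM
    · exact mul_ne_zero (pow_ne_zero 2 hd0) hC0
    · exact pow_ne_zero 2 hG0
    · rw [Nat.factorization_pow, Nat.factorization_mul (pow_ne_zero 2 hd0) hC0, Nat.factorization_pow]
      simp only [Finsupp.smul_apply, Finsupp.add_apply, smul_eq_mul]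
      have h1 : (Nat.card G).factorization p ≤ (Cfsg.charDegree (χ : G → ℂ)).factorization p :=
        (hp.out.pow_dvd_iff_le_factorization hd0).mp hχ
      have h2 : 1 ≤ (Nat.card (Subgroup.centralizer ({g} : Set G))).factorization p :=
        (hp.out.dvd_iff_one_le_factorization hC0).mp hg
      omega

/-- the reduced idempotent of a character of defect zero vanishes off the classes of defect zero -/
theorem d1_dz_coeff_eq_zero [Finite G] {p : ℕ} [hp : Fact p.Prime]
    (hM : Cfsg.IsPModular p M) (χ : Cfsg.IrrCharacter G)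
    (hχ : p ^ (Nat.card G).factorization p ∣ Cfsg.charDegree (χ : G → ℂ)) (g : G)
    (hg : p ∣ Nat.card (Subgroup.centralizer ({g} : Set G))) :
    (bp_blockBar hM.2.1 ({χ} : Set (Cfsg.IrrCharacter G))).coeff g = 0 := by
  have h := d1_dz_memLocalIdeal_blockCoeff hM χ hχ g hg
  rw [bp_blockBar_coeff, IsLocalRing.residue_eq_zero_iff, bp_Rloc_maximalIdeal, mem_Mloc,
    bp_toRloc_coe hM.2.1 (memLocalRing_of_memLocalIdeal h)]
  exact h

end Cfsg.Agent.D1
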