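import Mathlib
import Cfsg.Agent.BP.GAlg

/-!
# Defect-one track / DefZero, part B (no blocks): traces in the group algebra and simple submodules

* `d1_dz_exists_trace` : a central element of `k[G]` whose coefficients vanish on the classes with
  `|C_G(g)| = 0` in `k` is a trace `∑_{x ∈ G} x a x⁻¹`;
* `d1_dz_exists_irreducible_le` : every non-zero subrepresentation of a finite-dimensional
  representation contains an irreducible one;
* `d1_dz_sub_asAlgebraHom`, `d1_dz_intertwining_asAlgebraHom` : compatibility of the action of
  the group algebra with subrepresentations and intertwining maps.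
-/

set_option autoImplicit false

namespace Cfsg.Agent.D1

open Cfsg.Agent.BP Representation

universe u

section trace

variable {k : Type*} [Field k] {G : Type u} [Group G]

/-- the elements conjugating `r` to `h` form a coset of the centralizer of `r` -/
theorem d1_dz_card_conj_eq [Fintype G] [DecidableEq G] (h r y : G) (hy : y * r * y⁻¹ = h) :
    (Finset.univ.filter (fun x : G => x⁻¹ * h * x = r)).card =
      Nat.card (Subgroup.centralizer ({r} : Set G)) := by
  classical
  have hS : (Finset.univ.filter (fun x : G => x⁻¹ * h * x = r)).card =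
      Nat.card {x : G // x⁻¹ * h * x = r} := by
    rw [Nat.card_eq_fintype_card, Fintype.card_subtype]
  rw [hS]
  apply Nat.card_congr
  refine
    { toFun := fun x => ⟨y⁻¹ * x.1, ?_⟩
      invFun := fun c => ⟨y * c.1, ?_⟩
      left_inv := ?_
      right_inv := ?_ }
  · have hx : x.1⁻¹ * h * x.1 = r := x.2
    rw [Subgroup.mem_centralizer_iff]
    intro z hz
    rw [Set.mem_singleton_iff] at hz
    rw [hz]
    have hx' : x.1⁻¹ * (y * r * y⁻¹) * x.1 = r := by rw [hy]; exact hx
    calc r * (y⁻¹ * x.1) = y⁻¹ * x.1 * (x.1⁻¹ * (y * r * y⁻¹) * x.1) := by group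
      _ = y⁻¹ * x.1 * r := by rw [hx']
  · have hc := (Subgroup.mem_centralizer_iff.mp c.2) r (Set.mem_singleton r)
    -- hc : r * c = c * r
    show (y * c.1)⁻¹ * h * (y * c.1) = r
    rw [← hy]
    calc (y * c.1)⁻¹ * (y * r * y⁻¹) * (y * c.1) = c.1⁻¹ * (r * c.1) := by group
      _ = c.1⁻¹ * (c.1 * r) := by rw [hc]
      _ = r := by group
  · intro x
    apply Subtype.ext
    simp
  · intro c
    apply Subtype.ext
    simp

/-- **a central element supported on the classes of defect zero is a trace** -/
theorem d1_dz_exists_trace [Fintype G] (ε : MonoidAlgebra k G)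
    (hc : ∀ x g : G, ε.coeff (x * g * x⁻¹) = ε.coeff g)
    (hz : ∀ g : G, (Nat.card (Subgroup.centralizer ({g} : Set G)) : k) = 0 → ε.coeff g = 0) :
    ∃ a : MonoidAlgebra k G, ε = ∑ x : G, bp_conj x a := by
  classical
  -- class representatives
  let rep : G → G := fun g => Quotient.out (ConjClasses.mk g)
  have hrep : ∀ g, ∃ y, y * rep g * y⁻¹ = g := by
    intro g
    have h1 : ConjClasses.mk (rep g) = ConjClasses.mk g := Quotient.out_eq (ConjClasses.mk g)
    rw [ConjClasses.mk_eq_mk_iff_isConj, isConj_iff] at h1
    exact h1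
  have hrep_conj : ∀ x g, rep (x * g * x⁻¹) = rep g := by
    intro x g
    have : ConjClasses.mk (x * g * x⁻¹) = ConjClasses.mk g := by
      rw [ConjClasses.mk_eq_mk_iff_isConj, isConj_iff]
      exact ⟨x⁻¹, by group⟩
    simp only [rep, this]
  let f : G → k := fun g =>
    if g = rep g then ε.coeff g * ((Nat.card (Subgroup.centralizer ({g} : Set G)) : k))⁻¹ else 0
  refine ⟨MonoidAlgebra.ofCoeff (Finsupp.equivFunOnFinite.symm f), ?_⟩
  apply MonoidAlgebra.ext
  apply Finsupp.ext
  intro h
  have hcoeff : ∀ g, (MonoidAlgebra.ofCoeff (Finsupp.equivFunOnFinite.symm f) :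
      MonoidAlgebra k G).coeff g = f g := by
    intro g; simp
  have hsum : (∑ x : G, bp_conj x (MonoidAlgebra.ofCoeff (Finsupp.equivFunOnFinite.symm f) :
      MonoidAlgebra k G)).coeff h = ∑ x : G, f (x⁻¹ * h * x) := by
    rw [show (∑ x : G, bp_conj x (MonoidAlgebra.ofCoeff (Finsupp.equivFunOnFinite.symm f) :
        MonoidAlgebra k G)).coeff h = ∑ x : G, (bp_conj x (MonoidAlgebra.ofCoeff
          (Finsupp.equivFunOnFinite.symm f) : MonoidAlgebra k G)).coeff h from by
      simp [MonoidAlgebra.coeff_sum]]
    apply Finset.sum_congr rfl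
    intro x _
    rw [bp_conj_coeff, hcoeff]
  rw [hsum]
  set r := rep h with hr
  obtain ⟨y, hy⟩ := hrep h
  -- each term
  have hterm : ∀ x : G, f (x⁻¹ * h * x) =
      if x⁻¹ * h * x = r then ε.coeff r * ((Nat.card (Subgroup.centralizer ({r} : Set G)) : k))⁻¹
      else 0 := by
    intro x
    have h1 : rep (x⁻¹ * h * x) = r := by
      have := hrep_conj x⁻¹ h
      rw [inv_inv] at this
      rw [this]
    simp only [f, h1]
    by_cases hx : x⁻¹ * h * x = r
    · rw [if_pos hx, if_pos hx, hx]
    · rw [if_neg hx, if_neg hx]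
  rw [Finset.sum_congr rfl (fun x _ => hterm x), Finset.sum_ite, Finset.sum_const_zero, add_zero,
    Finset.sum_const, d1_dz_card_conj_eq h r y hy, nsmul_eq_mul]
  have hεr : ε.coeff h = ε.coeff r := by
    rw [← hy, hc]
  rw [hεr]
  by_cases h0 : (Nat.card (Subgroup.centralizer ({r} : Set G)) : k) = 0
  · rw [hz r h0, zero_mul, mul_zero]
  · field_simp

end trace

section modules

variable {k : Type*} [Field k] {G : Type*} [Group G] {V W : Type*} [AddCommGroup V] [Module k V]
  [AddCommGroup W] [Module k W]

/-- the action of the group algebra on a subrepresentation is the restricted action -/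
theorem d1_dz_sub_asAlgebraHom (ρ : Representation k G V) (S : Subrepresentation ρ)
    (a : MonoidAlgebra k G) (v : S.toSubmodule) :
    ((S.toRepresentation.asAlgebraHom a v : S.toSubmodule) : V) = ρ.asAlgebraHom a (v : V) := by
  induction a using MonoidAlgebra.induction_on with
  | of g =>
    rw [asAlgebraHom_of, asAlgebraHom_of]
    rfl
  | add x y hx hy =>
    rw [map_add, map_add, LinearMap.add_apply, LinearMap.add_apply, Submodule.coe_add, hx, hy]
  | smul r x hx =>
    rw [map_smul, map_smul, LinearMap.smul_apply, LinearMap.smul_apply, Submodule.coe_smul, hx]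

/-- intertwining maps commute with the action of the group algebra -/
theorem d1_dz_intertwining_asAlgebraHom (ρ : Representation k G V) (σ : Representation k G W)
    (f : IntertwiningMap ρ σ) (a : MonoidAlgebra k G) (v : V) :
    f.toLinearMap (ρ.asAlgebraHom a v) = σ.asAlgebraHom a (f.toLinearMap v) := by
  induction a using MonoidAlgebra.induction_on with
  | of g =>
    rw [asAlgebraHom_of, asAlgebraHom_of]
    have := f.isIntertwining' g
    exact LinearMap.congr_fun this v
  | add x y hx hy =>
    rw [map_add, map_add, LinearMap.add_apply, LinearMap.add_apply, map_add, hx, hy]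
  | smul r x hx =>
    rw [map_smul, map_smul, LinearMap.smul_apply, LinearMap.smul_apply, map_smul, hx]

/-- every non-zero subrepresentation of a finite-dimensional representation contains an
irreducible subrepresentation -/
theorem d1_dz_exists_irreducible_le [FiniteDimensional k V] (ρ : Representation k G V)
    (U : Subrepresentation ρ) (hU : U ≠ ⊥) :
    ∃ S : Subrepresentation ρ, S ≤ U ∧ S ≠ ⊥ ∧ S.toRepresentation.IsIrreducible := by
  classical
  let P : ℕ → Prop := fun n => ∃ S : Subrepresentation ρ, S ≤ U ∧ S ≠ ⊥ ∧
    Module.finrank k S.toSubmodule = n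
  have hP : ∃ n, P n := ⟨_, U, le_rfl, hU, rfl⟩
  obtain ⟨S, hSU, hS0, hSn⟩ := Nat.find_spec hP
  refine ⟨S, hSU, hS0, ?_⟩
  have hmin : ∀ S' : Subrepresentation ρ, S' ≤ S → S' ≠ ⊥ → S' = S := by
    intro S' hle hne
    have h1 : Nat.find hP ≤ Module.finrank k S'.toSubmodule :=
      Nat.find_min' hP ⟨S', hle.trans hSU, hne, rfl⟩
    apply Subrepresentation.toSubmodule_injective
    exact Submodule.eq_of_le_of_finrank_le hle (by rw [hSn]; exact h1)
  -- push a subrepresentation of `S` forward to `ρ`
  let push : Subrepresentation S.toRepresentation → Subrepresentation ρ := fun τ =>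
    { toSubmodule := τ.toSubmodule.map S.toSubmodule.subtype
      apply_mem_toSubmodule := by
        intro g v hv
        obtain ⟨w, hw, rfl⟩ := hv
        exact ⟨S.toRepresentation g w, τ.apply_mem_toSubmodule g hw, rfl⟩ }
  have hpush_le : ∀ τ, push τ ≤ S := by
    intro τ v hv
    obtain ⟨w, -, rfl⟩ := hv
    exact w.2
  have hpush_inj : ∀ τ τ', push τ = push τ' → τ = τ' := by
    intro τ τ' h
    apply Subrepresentation.toSubmodule_injective
    have h1 : τ.toSubmodule.map S.toSubmodule.subtype = τ'.toSubmodule.map S.toSubmodule.subtype :=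
      congrArg Subrepresentation.toSubmodule h
    exact Submodule.map_injective_of_injective S.toSubmodule.injective_subtype h1
  have hpush_bot : push ⊥ = ⊥ := by
    apply Subrepresentation.toSubmodule_injective
    show (⊥ : Submodule k S.toSubmodule).map S.toSubmodule.subtype = ⊥
    exact Submodule.map_bot _
  have hpush_top : push ⊤ = S := by
    apply Subrepresentation.toSubmodule_injective
    show (⊤ : Submodule k S.toSubmodule).map S.toSubmodule.subtype = S.toSubmodule
    rw [Submodule.map_top, Submodule.range_subtype]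
  refine
    { exists_pair_ne := ⟨⊥, ⊤, ?_⟩
      eq_bot_or_eq_top := ?_ }
  · intro h
    apply hS0
    rw [← hpush_top, ← h, hpush_bot]
  · intro τ
    by_cases hτ : push τ = ⊥
    · left
      apply hpush_inj
      rw [hτ, hpush_bot]
    · right
      apply hpush_inj
      rw [hpush_top]
      exact hmin _ (hpush_le τ) hτ

end modules

end Cfsg.Agent.D1
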