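import Cfsg.Agent.D1.Tr

/-!
# D1 / Pr : the trace form of projectivity (Higman)

Blueprint `notes/DefectOne_blueprint_helper7.md`, section 1.1.  For representations `ρ` on `V` and
`σ` on `W` of a finite group `G` and `H ≤ G`, a linear map `f : V → W` is `H`-*projective*
(`d1_IsPr ρ σ H f`) if `f = Tr_1^H φ = ∑_{h ∈ H} σ h ∘ φ ∘ ρ h⁻¹` for some linear `φ`.
-/

set_option autoImplicit false

namespace Cfsg.Agent.D1

open Cfsg.Agent.BP Representation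

set_option linter.unusedSectionVars false

variable {k : Type*} [Field k] {G : Type*} [Group G] [Finite G]
  {V W X : Type*} [AddCommGroup V] [Module k V] [AddCommGroup W] [Module k W]
  [AddCommGroup X] [Module k X]

/-- the elements of a subgroup, as a finset. -/
noncomputable def d1_elems (H : Subgroup G) : Finset G := (Set.toFinite (H : Set G)).toFinset

@[simp] theorem d1_mem_elems (H : Subgroup G) (g : G) : g ∈ d1_elems H ↔ g ∈ H := by
  simp [d1_elems]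

theorem d1_elems_isLT (H : Subgroup G) : bp_IsLT (d1_elems H) ⊥ H := by
  refine ⟨bot_le, fun t ht => (d1_mem_elems H t).1 ht, ?_⟩
  intro h hh
  refine ⟨h, ⟨(d1_mem_elems H h).2 hh, by simp⟩, ?_⟩
  rintro y ⟨_, hy⟩
  rw [Subgroup.mem_bot] at hy
  have : y = h := by
    have h1 : h = y * (y⁻¹ * h) := by group
    rw [h1, hy, mul_one]
  exact this

theorem d1_card_elems (H : Subgroup G) : (d1_elems H).card = Nat.card H := by
  classical
  rw [d1_elems, ← Set.ncard_eq_toFinset_card (H : Set G)]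
  rfl

/-- a left transversal of `⊥` in `H` is the set of elements of `H`. -/
theorem d1_eq_elems_of_isLT {T : Finset G} {H : Subgroup G} (hT : bp_IsLT T ⊥ H) :
    T = d1_elems H := by
  ext g
  rw [d1_mem_elems]
  constructor
  · exact hT.mem g
  · intro hg
    obtain ⟨t, ⟨ht, htg⟩, _⟩ := hT.uniq g hg
    rw [Subgroup.mem_bot] at htg
    have : t = g := by
      have h1 : g = t * (t⁻¹ * g) := by group
      rw [h1, htg, mul_one]
    rwa [← this]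

variable (ρ : Representation k G V) (σ : Representation k G W) (θ : Representation k G X)

/-- `f` commutes with the subgroup `H`. -/
def d1_IsHom (H : Subgroup G) (f : V →ₗ[k] W) : Prop := d1_IsFix (linHom ρ σ) H f

/-- the trace from `1` to `H` of a linear map. -/
noncomputable def d1_tr1 (H : Subgroup G) (φ : V →ₗ[k] W) : V →ₗ[k] W :=
  d1_trT (linHom ρ σ) (d1_elems H) φ

/-- `f` is a trace from `1` to `H`: it factors through a projective `kH`-module. -/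
def d1_IsPr (H : Subgroup G) (f : V →ₗ[k] W) : Prop := ∃ φ : V →ₗ[k] W, f = d1_tr1 ρ σ H φ

/-- the representation `ρ` is `H`-projective in the trace sense. -/
def d1_IsTrProj (H : Subgroup G) : Prop := d1_IsPr ρ ρ H LinearMap.id

variable {ρ σ θ}

theorem d1_isHom_iff {H : Subgroup G} {f : V →ₗ[k] W} :
    d1_IsHom ρ σ H f ↔ ∀ h ∈ H, f ∘ₗ ρ h = σ h ∘ₗ f := by
  unfold d1_IsHom d1_IsFix
  refine forall₂_congr (fun h _ => ?_)
  rw [linHom_apply]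
  constructor
  · intro e
    have h2 : (σ h ∘ₗ f ∘ₗ ρ h⁻¹) ∘ₗ ρ h = f ∘ₗ ρ h := by rw [e]
    rw [← h2]
    ext v
    simp [← Module.End.mul_apply, ← map_mul]
  · intro e
    have : σ h ∘ₗ f ∘ₗ ρ h⁻¹ = (σ h ∘ₗ f) ∘ₗ ρ h⁻¹ := rfl
    rw [this, ← e]
    ext v
    simp [← Module.End.mul_apply, ← map_mul]

theorem d1_isHom_apply {H : Subgroup G} {f : V →ₗ[k] W} (hf : d1_IsHom ρ σ H f) {h : G}
    (hh : h ∈ H) (v : V) : f (ρ h v) = σ h (f v) :=
  LinearMap.congr_fun (d1_isHom_iff.1 hf h hh) v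

theorem d1_isHom_id (H : Subgroup G) : d1_IsHom ρ ρ H LinearMap.id :=
  d1_isHom_iff.2 (fun _ _ => rfl)

theorem d1_isHom_rho (H : Subgroup G) {g : G} (hg : ∀ h ∈ H, g * h = h * g) :
    d1_IsHom ρ ρ H (ρ g) := by
  refine d1_isHom_iff.2 (fun h hh => ?_)
  ext v
  simp only [LinearMap.coe_comp, Function.comp_apply]
  rw [← Module.End.mul_apply, ← Module.End.mul_apply, ← map_mul, ← map_mul, hg h hh]

theorem d1_IsHom.comp {H : Subgroup G} {f : V →ₗ[k] W} {g : W →ₗ[k] X} (hf : d1_IsHom ρ σ H f)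
    (hg : d1_IsHom σ θ H g) : d1_IsHom ρ θ H (g ∘ₗ f) := by
  rw [d1_isHom_iff] at *
  intro h hh
  rw [LinearMap.comp_assoc, hf h hh, ← LinearMap.comp_assoc, hg h hh, LinearMap.comp_assoc]

theorem d1_IsHom.mono {K H : Subgroup G} (hKH : K ≤ H) {f : V →ₗ[k] W} (hf : d1_IsHom ρ σ H f) :
    d1_IsHom ρ σ K f := d1_IsFix.mono hKH hf

theorem d1_IsHom.add {H : Subgroup G} {f g : V →ₗ[k] W} (hf : d1_IsHom ρ σ H f)
    (hg : d1_IsHom ρ σ H g) : d1_IsHom ρ σ H (f + g) := d1_IsFix.add hf hg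

theorem d1_IsHom.sub {H : Subgroup G} {f g : V →ₗ[k] W} (hf : d1_IsHom ρ σ H f)
    (hg : d1_IsHom ρ σ H g) : d1_IsHom ρ σ H (f - g) := d1_IsFix.sub hf hg

theorem d1_IsHom.smul {H : Subgroup G} {f : V →ₗ[k] W} (c : k) (hf : d1_IsHom ρ σ H f) :
    d1_IsHom ρ σ H (c • f) := d1_IsFix.smul c hf

theorem d1_isHom_zero (H : Subgroup G) : d1_IsHom ρ σ H (0 : V →ₗ[k] W) := d1_isFix_zero H

/-- conjugation is compatible with composition. -/
theorem d1_linHom_comp (g : G) (φ : V →ₗ[k] W) (ψ : W →ₗ[k] X) :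
    linHom ρ θ g (ψ ∘ₗ φ) = linHom σ θ g ψ ∘ₗ linHom ρ σ g φ := by
  ext v
  simp only [linHom_apply, LinearMap.coe_comp, Function.comp_apply]
  rw [← Module.End.mul_apply (σ g⁻¹), ← map_mul]
  simp

theorem d1_trT_comp_left (T : Finset G) {H : Subgroup G} (hT : ∀ t ∈ T, t ∈ H) {α : W →ₗ[k] X}
    (hα : d1_IsHom σ θ H α) (φ : V →ₗ[k] W) :
    d1_trT (linHom ρ θ) T (α ∘ₗ φ) = α ∘ₗ d1_trT (linHom ρ σ) T φ := by
  unfold d1_trT
  have h1 : ∀ t ∈ T, linHom ρ θ t (α ∘ₗ φ) = α ∘ₗ linHom ρ σ t φ := by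
    intro t ht
    rw [d1_linHom_comp (σ := σ), hα t (hT t ht)]
  rw [Finset.sum_congr rfl h1]
  ext v
  simp only [LinearMap.coe_comp, Function.comp_apply, LinearMap.sum_apply, map_sum]

theorem d1_trT_comp_right (T : Finset G) {H : Subgroup G} (hT : ∀ t ∈ T, t ∈ H) {β : V →ₗ[k] W}
    (hβ : d1_IsHom ρ σ H β) (φ : W →ₗ[k] X) :
    d1_trT (linHom ρ θ) T (φ ∘ₗ β) = d1_trT (linHom σ θ) T φ ∘ₗ β := by
  unfold d1_trT
  have h1 : ∀ t ∈ T, linHom ρ θ t (φ ∘ₗ β) = linHom σ θ t φ ∘ₗ β := by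
    intro t ht
    rw [d1_linHom_comp (σ := σ), hβ t (hT t ht)]
  rw [Finset.sum_congr rfl h1]
  ext v
  simp only [LinearMap.coe_comp, Function.comp_apply, LinearMap.sum_apply]

theorem d1_tr1_comp_left {H : Subgroup G} {α : W →ₗ[k] X} (hα : d1_IsHom σ θ H α)
    (φ : V →ₗ[k] W) : d1_tr1 ρ θ H (α ∘ₗ φ) = α ∘ₗ d1_tr1 ρ σ H φ :=
  d1_trT_comp_left _ (fun t ht => (d1_mem_elems H t).1 ht) hα φ

theorem d1_tr1_comp_right {H : Subgroup G} {β : V →ₗ[k] W} (hβ : d1_IsHom ρ σ H β)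
    (φ : W →ₗ[k] X) : d1_tr1 ρ θ H (φ ∘ₗ β) = d1_tr1 σ θ H φ ∘ₗ β :=
  d1_trT_comp_right _ (fun t ht => (d1_mem_elems H t).1 ht) hβ φ

theorem d1_tr1_isHom (H : Subgroup G) (φ : V →ₗ[k] W) : d1_IsHom ρ σ H (d1_tr1 ρ σ H φ) :=
  d1_trT_isFix (d1_elems_isLT H) (d1_isFix_bot φ)

theorem d1_IsPr.isHom {H : Subgroup G} {f : V →ₗ[k] W} (hf : d1_IsPr ρ σ H f) :
    d1_IsHom ρ σ H f := by
  obtain ⟨φ, rfl⟩ := hf
  exact d1_tr1_isHom H φ

theorem d1_IsPr.add {H : Subgroup G} {f g : V →ₗ[k] W} (hf : d1_IsPr ρ σ H f)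
    (hg : d1_IsPr ρ σ H g) : d1_IsPr ρ σ H (f + g) := by
  obtain ⟨φ, rfl⟩ := hf
  obtain ⟨ψ, rfl⟩ := hg
  exact ⟨φ + ψ, (d1_trT_add _ _ _).symm⟩

theorem d1_IsPr.sub {H : Subgroup G} {f g : V →ₗ[k] W} (hf : d1_IsPr ρ σ H f)
    (hg : d1_IsPr ρ σ H g) : d1_IsPr ρ σ H (f - g) := by
  obtain ⟨φ, rfl⟩ := hf
  obtain ⟨ψ, rfl⟩ := hg
  exact ⟨φ - ψ, (d1_trT_sub _ _ _).symm⟩

theorem d1_IsPr.smul {H : Subgroup G} {f : V →ₗ[k] W} (c : k) (hf : d1_IsPr ρ σ H f) :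
    d1_IsPr ρ σ H (c • f) := by
  obtain ⟨φ, rfl⟩ := hf
  exact ⟨c • φ, (d1_trT_smul _ _ _).symm⟩

theorem d1_isPr_zero (H : Subgroup G) : d1_IsPr ρ σ H (0 : V →ₗ[k] W) :=
  ⟨0, (d1_trT_zero _).symm⟩

theorem d1_isPr_sum {ι : Type*} (s : Finset ι) {H : Subgroup G} (f : ι → V →ₗ[k] W)
    (hf : ∀ i ∈ s, d1_IsPr ρ σ H (f i)) : d1_IsPr ρ σ H (∑ i ∈ s, f i) := by
  classical
  induction s using Finset.induction_on with
  | empty => simpa using d1_isPr_zero H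
  | insert i s hi ih =>
    rw [Finset.sum_insert hi]
    exact (hf i (Finset.mem_insert_self i s)).add
      (ih (fun j hj => hf j (Finset.mem_insert_of_mem hj)))

theorem d1_IsPr.comp_left {H : Subgroup G} {f : V →ₗ[k] W} (hf : d1_IsPr ρ σ H f)
    {α : W →ₗ[k] X} (hα : d1_IsHom σ θ H α) : d1_IsPr ρ θ H (α ∘ₗ f) := by
  obtain ⟨φ, rfl⟩ := hf
  exact ⟨α ∘ₗ φ, (d1_tr1_comp_left hα φ).symm⟩

theorem d1_IsPr.comp_right {H : Subgroup G} {f : W →ₗ[k] X} (hf : d1_IsPr σ θ H f)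
    {β : V →ₗ[k] W} (hβ : d1_IsHom ρ σ H β) : d1_IsPr ρ θ H (f ∘ₗ β) := by
  obtain ⟨φ, rfl⟩ := hf
  exact ⟨φ ∘ₗ β, (d1_tr1_comp_right hβ φ).symm⟩

/-- if the source is projective, every `H`-map out of it is projective. -/
theorem d1_IsTrProj.isPr_of_isHom {H : Subgroup G} (hρ : d1_IsTrProj ρ H) {f : V →ₗ[k] W}
    (hf : d1_IsHom ρ σ H f) : d1_IsPr ρ σ H f := by
  have := hρ.comp_left hf
  rwa [LinearMap.comp_id] at this

/-- if the target is projective, every `H`-map into it is projective. -/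
theorem d1_IsTrProj.isPr_of_isHom' {H : Subgroup G} (hσ : d1_IsTrProj σ H) {f : V →ₗ[k] W}
    (hf : d1_IsHom ρ σ H f) : d1_IsPr ρ σ H f := by
  have := hσ.comp_right hf
  rwa [LinearMap.id_comp] at this

/-- the trace from `1` to `H` through an intermediate subgroup `K`. -/
theorem d1_tr1_eq_trT_tr1 {K H : Subgroup G} {T : Finset G} (hT : bp_IsLT T K H)
    (φ : V →ₗ[k] W) : d1_tr1 ρ σ H φ = d1_trT (linHom ρ σ) T (d1_tr1 ρ σ K φ) :=
  d1_trT_trans hT (d1_elems_isLT K) (d1_elems_isLT H) (d1_isFix_bot φ)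

/-- (T4) a relative trace from a subgroup of invertible order is a trace from `1`. -/
theorem d1_trT_eq_tr1 {K H : Subgroup G} {T : Finset G} (hT : bp_IsLT T K H)
    (hK : (Nat.card K : k) ≠ 0) {b : V →ₗ[k] W} (hb : d1_IsHom ρ σ K b) :
    d1_trT (linHom ρ σ) T b = d1_tr1 ρ σ H ((Nat.card K : k)⁻¹ • b) := by
  rw [d1_tr1_eq_trT_tr1 hT]
  congr 1
  unfold d1_tr1
  rw [d1_trT_of_isFix (d1_elems_isLT K) (hb.smul _), d1_card_elems, smul_smul,
    mul_inv_cancel₀ hK, one_smul]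

theorem d1_isPr_trT {K H : Subgroup G} {T : Finset G} (hT : bp_IsLT T K H)
    (hK : (Nat.card K : k) ≠ 0) {b : V →ₗ[k] W} (hb : d1_IsHom ρ σ K b) :
    d1_IsPr ρ σ H (d1_trT (linHom ρ σ) T b) := ⟨_, d1_trT_eq_tr1 hT hK hb⟩

/-- (T2) projective maps for `H` are projective for every subgroup of `H`. -/
theorem d1_IsPr.mono {K H : Subgroup G} (hKH : K ≤ H) {f : V →ₗ[k] W} (hf : d1_IsPr ρ σ H f) :
    d1_IsPr ρ σ K f := by
  classical
  obtain ⟨φ, rfl⟩ := hf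
  set T := bp_transv K H with hTdef
  have hT : bp_IsLT T K H := bp_transv_isLT hKH
  refine ⟨∑ t ∈ T, linHom ρ σ t⁻¹ φ, ?_⟩
  have hLT := hT.mul (d1_elems_isLT K)
  have hinj := hT.mul_injOn (d1_elems_isLT K)
  have hEq := d1_eq_elems_of_isLT hLT
  -- sum over `H` of `h⁻¹ • φ`
  have h1 : d1_tr1 ρ σ H φ = ∑ h ∈ d1_elems H, linHom ρ σ h⁻¹ φ := by
    unfold d1_tr1 d1_trT
    refine Finset.sum_bij (fun h _ => h⁻¹) ?_ ?_ ?_ ?_
    · intro h hh
      rw [d1_mem_elems] at hh ⊢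
      exact H.inv_mem hh
    · intro a _ b _ e
      exact inv_injective e
    · intro b hb
      refine ⟨b⁻¹, ?_, inv_inv b⟩
      rw [d1_mem_elems] at hb ⊢
      exact H.inv_mem hb
    · intro h _
      rw [inv_inv]
  rw [h1, ← hEq, Finset.sum_image hinj, Finset.sum_product, Finset.sum_comm]
  unfold d1_tr1 d1_trT
  have h2 : ∀ y ∈ d1_elems K, ∑ x ∈ T, linHom ρ σ ((x, y).1 * (x, y).2)⁻¹ φ =
      linHom ρ σ y⁻¹ (∑ t ∈ T, linHom ρ σ t⁻¹ φ) := by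
    intro y _
    rw [map_sum]
    refine Finset.sum_congr rfl (fun x _ => ?_)
    rw [mul_inv_rev, d1_mul_apply]
  rw [Finset.sum_congr rfl h2]
  refine Finset.sum_bij (fun h _ => h⁻¹) ?_ ?_ ?_ ?_
  · intro h hh
    rw [d1_mem_elems] at hh ⊢
    exact K.inv_mem hh
  · intro a _ b _ e
    exact inv_injective e
  · intro b hb
    refine ⟨b⁻¹, ?_, inv_inv b⟩
    rw [d1_mem_elems] at hb ⊢
    exact K.inv_mem hb
  · intro h _
    rfl

end Cfsg.Agent.D1
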