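import Mathlib
import Cfsg.Agent.D1.DefZeroA
import Cfsg.Agent.D1.DefZeroB
import Cfsg.Agent.D1.Pr
import Cfsg.Agent.D1.Fam

/-!
# Defect-one track / DefZero: the simple modules of the blocks of defect zero

Blueprint `notes/DefectOne_blueprint_helper7.md`, section 1 (defect zero).  Over the residue field `k` of
`Rloc hM` (algebraically closed, characteristic `p`), every irreducible character `χ` of `p`-defect zero
(`|G|_p ∣ χ(1)`) gives a simple `kG`-module `S_χ` (a simple submodule of `kG ē_χ`) which is tr-projective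
(`d1_IsTrProj _ ⊤`), and the `S_χ` are pairwise non-isomorphic.

* `d1_dz_isTrProj_of_trace` : a representation on which a trace `∑ₓ x a x⁻¹` of the group algebra acts
  as the identity is tr-projective;
* `d1_dz_trProj_iso` : tr-projectivity is invariant under isomorphism;
* `d1_dz_family` : the family `(S_χ)`.
-/

set_option autoImplicit false
set_option linter.unusedSectionVars false
set_option linter.style.haveILetI false

namespace Cfsg.Agent.D1

open Cfsg.Agent.Helper6 Cfsg.Agent.Helper6.Cov Cfsg.Agent.BP Representation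

universe u

section general

variable {k : Type*} [Field k] {G : Type*} [Group G] [Finite G]
  {V W : Type*} [AddCommGroup V] [Module k V] [AddCommGroup W] [Module k W]

theorem d1_dz_elems_top [Fintype G] : d1_elems (⊤ : Subgroup G) = Finset.univ := by
  ext g
  simp

/-- the action of a conjugate `x a x⁻¹` of the group algebra -/
theorem d1_dz_asAlgebraHom_conj (ρ : Representation k G V) (x : G) (a : MonoidAlgebra k G) :
    ρ.asAlgebraHom (bp_conj x a) = linHom ρ ρ x (ρ.asAlgebraHom a) := by
  rw [bp_conj_eq_mul, map_mul, map_mul, asAlgebraHom_single_one, asAlgebraHom_single_one,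
    linHom_apply]
  rfl

/-- a representation on which a trace `∑ₓ x a x⁻¹` acts as the identity is tr-projective -/
theorem d1_dz_isTrProj_of_trace [Fintype G] (ρ : Representation k G V) (a : MonoidAlgebra k G)
    (h : ρ.asAlgebraHom (∑ x : G, bp_conj x a) = LinearMap.id) : d1_IsTrProj ρ ⊤ := by
  refine ⟨ρ.asAlgebraHom a, ?_⟩
  rw [← h, map_sum]
  unfold d1_tr1 d1_trT
  rw [d1_dz_elems_top]
  exact Finset.sum_congr rfl (fun x _ => d1_dz_asAlgebraHom_conj ρ x a)

/-- an isomorphism of representations commutes with every subgroup -/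
theorem d1_dz_equiv_isHom (ρ : Representation k G V) (σ : Representation k G W)
    (f : ρ.Equiv σ) (H : Subgroup G) : d1_IsHom ρ σ H f.toLinearMap :=
  d1_isHom_iff.2 (fun h _ => f.isIntertwining' h)

/-- **tr-projectivity is invariant under isomorphism** -/
theorem d1_dz_trProj_iso (ρ : Representation k G V) (σ : Representation k G W)
    (f : ρ.Equiv σ) (H : Subgroup G) (hρ : d1_IsTrProj ρ H) : d1_IsTrProj σ H := by
  have h1 : d1_IsHom ρ σ H f.toLinearMap := d1_dz_equiv_isHom ρ σ f H
  have h2 : d1_IsHom σ ρ H f.symm.toLinearMap := d1_dz_equiv_isHom σ ρ f.symm H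
  have h3 : d1_IsPr σ σ H (f.toLinearMap ∘ₗ LinearMap.id ∘ₗ f.symm.toLinearMap) :=
    (hρ.comp_right h2).comp_left h1
  have h4 : f.toLinearMap ∘ₗ LinearMap.id ∘ₗ f.symm.toLinearMap = LinearMap.id := by
    ext w
    simp
  unfold d1_IsTrProj
  rw [← h4]
  exact h3

end general

section main

variable {G : Type u} [Group G] [Finite G] {M : Ideal Cfsg.AlgInt} {p : ℕ} [hp : Fact p.Prime]

/-- a character of `p`-defect zero is alone in its block -/
theorem d1_dz_blockOf_eq_singleton (hM : Cfsg.IsPModular p M) (χ : Cfsg.IrrCharacter G)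
    (hχ : p ^ (Nat.card G).factorization p ∣ Cfsg.charDegree (χ : G → ℂ)) :
    Cfsg.blockOf M (χ : G → ℂ) = {χ} := by
  rw [← defect_zero_iff_singleton hM.2.1 p hM.2.2 χ]
  intro hdiv
  obtain ⟨m, hm⟩ := charDegree_dvd_card χ.2
  have hG0 : Nat.card G ≠ 0 := Nat.card_pos.ne'
  have hd0 : Cfsg.charDegree (χ : G → ℂ) ≠ 0 := by
    intro h0
    rw [h0, zero_mul] at hm
    exact hG0 hm
  have h1 : Nat.card G / Cfsg.charDegree (χ : G → ℂ) = m := by
    rw [hm]
    exact Nat.mul_div_cancel_left m (Nat.pos_of_ne_zero hd0)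
  rw [h1] at hdiv
  have h2 : p ^ ((Nat.card G).factorization p + 1) ∣ Nat.card G := by
    rw [pow_succ]
    nth_rewrite 2 [hm]
    exact Nat.mul_dvd_mul hχ hdiv
  have h3 := (hp.out.pow_dvd_iff_le_factorization hG0).mp h2
  omega

theorem d1_dz_isPBlock_singleton (hM : Cfsg.IsPModular p M) (χ : Cfsg.IrrCharacter G)
    (hχ : p ^ (Nat.card G).factorization p ∣ Cfsg.charDegree (χ : G → ℂ)) :
    Cfsg.IsPBlock M ({χ} : Set (Cfsg.IrrCharacter G)) :=
  ⟨χ, (d1_dz_blockOf_eq_singleton hM χ hχ).symm⟩

/-- the left regular action of a group element is the multiplication by it -/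
theorem d1_dz_leftRegular_apply {k : Type*} [Field k] (g : G) (v : MonoidAlgebra k G) :
    leftRegular k G g v = MonoidAlgebra.single g (1 : k) * v := by
  rw [← asAlgebraHom_ofMulAction_smul_eq_mul, asAlgebraHom_single_one]

/-- **the simple module of a block of defect zero**: a simple submodule `S` of the regular module on
which the block idempotent acts as the identity; it is tr-projective. -/
theorem d1_dz_exists_simple (hM : Cfsg.IsPModular p M) (χ : Cfsg.IrrCharacter G)
    (hχ : p ^ (Nat.card G).factorization p ∣ Cfsg.charDegree (χ : G → ℂ)) :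
    ∃ S : Subrepresentation (leftRegular (IsLocalRing.ResidueField (Rloc hM.2.1)) G),
      S ≠ ⊥ ∧ S.toRepresentation.IsIrreducible ∧
      (∀ v ∈ S.toSubmodule, bp_blockBar hM.2.1 ({χ} : Set (Cfsg.IrrCharacter G)) * v = v) ∧
      d1_IsTrProj S.toRepresentation ⊤ := by
  classical
  haveI : Fintype G := Fintype.ofFinite G
  haveI : CharP (IsLocalRing.ResidueField (Rloc hM.2.1)) p := bp_Rloc_charP_residueField hM
  set k := IsLocalRing.ResidueField (Rloc hM.2.1) with hk
  set ε : MonoidAlgebra k G := bp_blockBar hM.2.1 ({χ} : Set (Cfsg.IrrCharacter G)) with hε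
  have hblock := d1_dz_isPBlock_singleton hM χ hχ
  have hidem : ε * ε = ε := (bp_blockBar_idem hM.2.1 _ hblock).eq
  have hcomm : ∀ y : MonoidAlgebra k G, ε * y = y * ε := fun y =>
    (bp_blockBar_commute hM.2.1 _ hblock y).eq
  have hne : ε ≠ 0 := bp_blockBar_ne_zero hM.2.1 _ hblock
  -- the submodule `ε kG`
  let U : Subrepresentation (leftRegular k G) :=
    { toSubmodule :=
        { carrier := {v | ε * v = v}
          add_mem' := by
            intro a b ha hb
            simp only [Set.mem_ofPred_eq] at ha hb ⊢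
            rw [mul_add, ha, hb]
          zero_mem' := by simp
          smul_mem' := by
            intro c v hv
            simp only [Set.mem_ofPred_eq] at hv ⊢
            rw [mul_smul_comm, hv] }
      apply_mem_toSubmodule := by
        intro g v hv
        change ε * v = v at hv
        change ε * (leftRegular k G g v) = leftRegular k G g v
        rw [d1_dz_leftRegular_apply, ← mul_assoc, hcomm, mul_assoc, hv] }
  have hUmem : ∀ v : MonoidAlgebra k G, v ∈ U.toSubmodule ↔ ε * v = v := fun v => Iff.rfl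
  have hU : U ≠ ⊥ := by
    intro h
    have h1 : ε ∈ U.toSubmodule := (hUmem ε).2 hidem
    rw [h] at h1
    exact hne ((Submodule.mem_bot k).1 h1)
  obtain ⟨S, hSU, hS0, hSirr⟩ := d1_dz_exists_irreducible_le (leftRegular k G) U hU
  have hSε : ∀ v ∈ S.toSubmodule, ε * v = v := fun v hv => (hUmem v).1 (hSU hv)
  refine ⟨S, hS0, hSirr, hSε, ?_⟩
  -- `ε` is a trace
  have hfix : ∀ x : G, bp_conj x ε = ε := by
    intro x
    rw [bp_conj_eq_mul, ← hcomm, mul_assoc, MonoidAlgebra.single_mul_single, mul_inv_cancel,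
      mul_one, ← MonoidAlgebra.one_def, mul_one]
  have hc : ∀ x g : G, ε.coeff (x * g * x⁻¹) = ε.coeff g := by
    intro x g
    have h1 := bp_conj_coeff x⁻¹ g ε
    rw [hfix, inv_inv] at h1
    exact h1.symm
  have hz : ∀ g : G, (Nat.card (Subgroup.centralizer ({g} : Set G)) : k) = 0 → ε.coeff g = 0 := by
    intro g hg
    exact d1_dz_coeff_eq_zero hM χ hχ g ((CharP.cast_eq_zero_iff k p _).1 hg)
  obtain ⟨a, ha⟩ := d1_dz_exists_trace ε hc hz
  apply d1_dz_isTrProj_of_trace S.toRepresentation a
  rw [← ha]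
  apply LinearMap.ext
  intro v
  apply Subtype.ext
  rw [d1_dz_sub_asAlgebraHom, asAlgebraHom_ofMulAction_smul_eq_mul]
  exact hSε v v.2

/-- the simple modules of two different blocks of defect zero are not isomorphic -/
theorem d1_dz_not_equiv (hM : Cfsg.IsPModular p M) (χ ψ : Cfsg.IrrCharacter G)
    (hχ : p ^ (Nat.card G).factorization p ∣ Cfsg.charDegree (χ : G → ℂ))
    (hψ : p ^ (Nat.card G).factorization p ∣ Cfsg.charDegree (ψ : G → ℂ)) (hne : χ ≠ ψ)
    (S T : Subrepresentation (leftRegular (IsLocalRing.ResidueField (Rloc hM.2.1)) G))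
    (hS0 : S ≠ ⊥)
    (hS : ∀ v ∈ S.toSubmodule, bp_blockBar hM.2.1 ({χ} : Set (Cfsg.IrrCharacter G)) * v = v)
    (hT : ∀ v ∈ T.toSubmodule, bp_blockBar hM.2.1 ({ψ} : Set (Cfsg.IrrCharacter G)) * v = v) :
    IsEmpty (S.toRepresentation.Equiv T.toRepresentation) := by
  refine ⟨fun f => hS0 ?_⟩
  set k := IsLocalRing.ResidueField (Rloc hM.2.1) with hk
  have horth : bp_blockBar hM.2.1 ({χ} : Set (Cfsg.IrrCharacter G)) *
      bp_blockBar hM.2.1 ({ψ} : Set (Cfsg.IrrCharacter G)) = 0 := by
    apply bp_blockBar_mul_of_ne hM.2.1 _ _ (d1_dz_isPBlock_singleton hM χ hχ)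
      (d1_dz_isPBlock_singleton hM ψ hψ)
    intro h
    exact hne (Set.singleton_injective h)
  apply Subrepresentation.toSubmodule_injective
  refine (Submodule.eq_bot_iff _).2 (fun v hv => ?_)
  set v' : S.toSubmodule := ⟨v, hv⟩ with hv'
  set w : T.toSubmodule := f.toLinearMap v' with hw
  have h1 := d1_dz_intertwining_asAlgebraHom S.toRepresentation T.toRepresentation
    f.toIntertwiningMap (bp_blockBar hM.2.1 ({χ} : Set (Cfsg.IrrCharacter G))) v'
  have h2 : S.toRepresentation.asAlgebraHom
      (bp_blockBar hM.2.1 ({χ} : Set (Cfsg.IrrCharacter G))) v' = v' := by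
    apply Subtype.ext
    rw [d1_dz_sub_asAlgebraHom, asAlgebraHom_ofMulAction_smul_eq_mul]
    exact hS v hv
  rw [h2] at h1
  have h3 : ((T.toRepresentation.asAlgebraHom
      (bp_blockBar hM.2.1 ({χ} : Set (Cfsg.IrrCharacter G))) w : T.toSubmodule) :
        MonoidAlgebra k G) = 0 := by
    rw [d1_dz_sub_asAlgebraHom, asAlgebraHom_ofMulAction_smul_eq_mul, ← hT (w : MonoidAlgebra k G) w.2,
      ← mul_assoc, horth, zero_mul]
  have h4 : w = 0 := by
    apply Subtype.ext
    rw [hw, h1]
    exact h3
  have h5 : v' = 0 := by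
    have : f.toLinearEquiv v' = f.toLinearEquiv 0 := by
      rw [map_zero]
      exact h4
    exact f.toLinearEquiv.injective this
  have := congrArg Subtype.val h5
  simpa [hv'] using this

/-- **the family of the simple modules of the blocks of defect zero**: pairwise non-isomorphic simple
modules over the residue field, indexed by the irreducible characters of `p`-defect zero, all of them
tr-projective. -/
theorem d1_dz_family (p : ℕ) [Fact p.Prime] (M : Ideal Cfsg.AlgInt) (hM : Cfsg.IsPModular p M) :
    ∃ F : d1_Fam.{u} (IsLocalRing.ResidueField (Rloc hM.2.1)) G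
        {χ : Cfsg.IrrCharacter G // p ^ (Nat.card G).factorization p ∣
          Cfsg.charDegree (χ : G → ℂ)},
      ∀ i, d1_IsTrProj (F.ρ i) ⊤ := by
  classical
  have hex := fun i : {χ : Cfsg.IrrCharacter G // p ^ (Nat.card G).factorization p ∣
      Cfsg.charDegree (χ : G → ℂ)} => d1_dz_exists_simple hM i.1 i.2
  choose S hS0 hSirr hSε hStr using hex
  refine ⟨{ V := fun i => (S i).toSubmodule
            ρ := fun i => (S i).toRepresentation
            irr := hSirr
            pni := ?_ }, hStr⟩
  intro i j hij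
  by_contra hne
  have hne' : i.1 ≠ j.1 := fun h => hne (Subtype.ext h)
  exact (d1_dz_not_equiv hM i.1 j.1 i.2 j.2 hne' (S i) (S j) (hS0 i) (hSε i) (hSε j)).false hij.some

end main

end Cfsg.Agent.D1
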