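import Cfsg.Agent.D1.Green
import Cfsg.Agent.D1.CountUpper
import Cfsg.Agent.D1.CountLower
import Cfsg.Agent.D1.DefZero
import Cfsg.Agent.BP.RlocInst

/-!
# D1 / ModMain : the global count `k(N_G(P)/P) + z(G) ≤ l(G)`

Blueprint `notes/DefectOne_blueprint_helper7.md`, sections 1.6 and 2: `P` a Sylow `p`-subgroup of
order `p`, `N = N_G(P)`.  The number of conjugacy classes of `N/P` plus the number of irreducible
characters of `p`-defect zero is at most the number of `p`-regular classes of `G`.
-/

set_option autoImplicit false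

namespace Cfsg.Agent.D1

open Cfsg.Agent.Helper6 Cfsg.Agent.Helper6.Cov Cfsg.Agent.BP Representation

universe u w

set_option linter.unusedSectionVars false
set_option linter.style.haveILetI false

section Inflate

variable {k : Type*} [Field k] {N Q : Type*} [Group N] [Group Q] (φ : N →* Q)
  (hφ : Function.Surjective φ)

include hφ in
/-- inflation of a family along a surjective homomorphism. -/
theorem d1_inflate_family {ι : Type*} (F : d1_Fam.{w} k Q ι) :
    ∃ F' : d1_Fam.{w} k N ι, (∀ i, F'.V i = F.V i) ∧
      ∀ i (x : N), φ x = 1 → F'.ρ i x = LinearMap.id := by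
  refine ⟨{ V := F.V, ρ := fun i => (F.ρ i).comp φ, irr := ?_, pni := ?_ }, fun _ => rfl, ?_⟩
  · intro i
    haveI := F.irr i
    -- subrepresentations of the inflation are subrepresentations
    have hnt : Nontrivial (Subrepresentation ((F.ρ i).comp φ)) := by
      obtain ⟨a, b, hab⟩ := (F.irr i).toNontrivial
      refine ⟨⟨⟨a.toSubmodule, fun g v hv => a.apply_mem_toSubmodule (φ g) hv⟩,
        ⟨b.toSubmodule, fun g v hv => b.apply_mem_toSubmodule (φ g) hv⟩, ?_⟩⟩
      intro e
      apply hab
      apply Subrepresentation.toSubmodule_injective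
      have := congrArg Subrepresentation.toSubmodule e
      exact this
    refine ⟨fun a => ?_⟩
    set a' : Subrepresentation (F.ρ i) := ⟨a.toSubmodule, fun q v hv => by
      obtain ⟨n, rfl⟩ := hφ q
      exact a.apply_mem_toSubmodule n hv⟩ with ha'
    rcases eq_bot_or_eq_top a' with h | h
    · left
      apply Subrepresentation.toSubmodule_injective
      have := congrArg Subrepresentation.toSubmodule h
      exact this
    · right
      apply Subrepresentation.toSubmodule_injective
      have := congrArg Subrepresentation.toSubmodule h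
      exact this
  · rintro i j ⟨e⟩
    apply F.pni i j
    refine ⟨Representation.Equiv.mk e.toLinearEquiv (fun q => ?_)⟩
    obtain ⟨n, rfl⟩ := hφ q
    exact e.isIntertwining' n
  · intro i x hx
    show (F.ρ i) (φ x) = LinearMap.id
    rw [hx, map_one]
    rfl

end Inflate

section FamSum

variable {k : Type*} [Field k] {G : Type*} [Group G] {ι₁ ι₂ : Type*}

/-- the disjoint union of two families without isomorphisms across. -/
def d1_famSum (F₁ : d1_Fam.{w} k G ι₁) (F₂ : d1_Fam.{w} k G ι₂)
    (h : ∀ a b, IsEmpty ((F₁.ρ a).Equiv (F₂.ρ b))) : d1_Fam.{w} k G (ι₁ ⊕ ι₂) where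
  V := Sum.elim F₁.V F₂.V
  acg := fun i => match i with
    | .inl a => F₁.acg a
    | .inr b => F₂.acg b
  mod := fun i => match i with
    | .inl a => F₁.mod a
    | .inr b => F₂.mod b
  fd := fun i => match i with
    | .inl a => F₁.fd a
    | .inr b => F₂.fd b
  ρ := fun i => match i with
    | .inl a => F₁.ρ a
    | .inr b => F₂.ρ b
  irr := fun i => match i with
    | .inl a => F₁.irr a
    | .inr b => F₂.irr b
  pni := by
    rintro (a | b) (a' | b') ⟨e⟩
    · exact congrArg Sum.inl (F₁.pni a a' ⟨e⟩)
    · exact ((h a b').false e).elim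
    · exact ((h a' b).false (Representation.Equiv.symm e)).elim
    · exact congrArg Sum.inr (F₂.pni b b' ⟨e⟩)

end FamSum

/-- **(MOD)** `P` a Sylow `p`-subgroup of order `p`, `N = N_G(P)`: the number of conjugacy classes of
`N/P` plus the number of irreducible characters of `p`-defect zero is at most the number of
`p`-regular conjugacy classes of `G`. -/
theorem d1_mod_main {G : Type u} [Group G] [Finite G] (p : ℕ) [hp : Fact p.Prime]
    (M : Ideal Cfsg.AlgInt) (hM : Cfsg.IsPModular p M) (P : Sylow p G) (hP : Nat.card P = p) :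
    Nat.card (ConjClasses (↥(Subgroup.normalizer ((P : Subgroup G) : Set G)) ⧸
        ((P : Subgroup G).subgroupOf (Subgroup.normalizer ((P : Subgroup G) : Set G)))))
      + Nat.card {χ : Cfsg.IrrCharacter G // p ^ (Nat.card G).factorization p ∣
          Cfsg.charDegree (χ : G → ℂ)}
      ≤ Nat.card {c : ConjClasses G // ∃ g : G, ConjClasses.mk g = c ∧ ¬ p ∣ orderOf g} := by
  classical
  haveI : IsAlgClosed (IsLocalRing.ResidueField (Rloc hM.2.1)) :=
    bp_Rloc_isAlgClosed_residueField hM.2.1
  haveI : CharP (IsLocalRing.ResidueField (Rloc hM.2.1)) p := bp_Rloc_charP_residueField hM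
  have hPN : (P : Subgroup G) ≤ Subgroup.normalizer ((P : Subgroup G) : Set G) :=
    Subgroup.le_normalizer
  haveI hPn : ((P : Subgroup G).subgroupOf (Subgroup.normalizer ((P : Subgroup G) : Set G))).Normal :=
    Subgroup.normal_in_normalizer
  have hidx : ¬ p ∣
      ((P : Subgroup G).subgroupOf (Subgroup.normalizer ((P : Subgroup G) : Set G))).index := by
    intro h
    have h1 : (P : Subgroup G).relIndex (Subgroup.normalizer ((P : Subgroup G) : Set G)) ∣
        (P : Subgroup G).index := Subgroup.relIndex_dvd_index_of_le hPN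
    exact P.not_dvd_index (h.trans h1)
  have hQ : (Nat.card (↥(Subgroup.normalizer ((P : Subgroup G) : Set G)) ⧸
      ((P : Subgroup G).subgroupOf (Subgroup.normalizer ((P : Subgroup G) : Set G)))) :
        IsLocalRing.ResidueField (Rloc hM.2.1)) ≠ 0 := by
    intro h
    apply hidx
    rw [Subgroup.index_eq_card]
    exact (CharP.cast_eq_zero_iff _ p _).1 h
  obtain ⟨FQ⟩ := d1_pprime_lower (k := IsLocalRing.ResidueField (Rloc hM.2.1)) hQ
  obtain ⟨FN, _, hFN⟩ := d1_inflate_family (QuotientGroup.mk'
    ((P : Subgroup G).subgroupOf (Subgroup.normalizer ((P : Subgroup G) : Set G))))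
    (QuotientGroup.mk'_surjective _) FQ
  have htriv : ∀ i (x : ↥(Subgroup.normalizer ((P : Subgroup G) : Set G))),
      (x : G) ∈ (P : Subgroup G) → FN.ρ i x = LinearMap.id := by
    intro i x hx
    apply hFN i x
    rw [QuotientGroup.mk'_apply, QuotientGroup.eq_one_iff]
    exact Subgroup.mem_subgroupOf.2 hx
  obtain ⟨F₁, hF₁⟩ := d1_green_family p P hP FN htriv
  obtain ⟨F₂, hF₂⟩ := d1_dz_family (G := G) p M hM
  -- the combined family
  have hcross : ∀ a b, IsEmpty ((F₁.ρ a).Equiv (F₂.ρ b)) := fun a b =>
    ⟨fun e => hF₁ a (d1_dz_trProj_iso _ _ e.symm ⊤ (hF₂ b))⟩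
  set F := d1_famSum F₁ F₂ hcross with hF
  haveI : Finite (Cfsg.IrrCharacter G) := irr_finite
  have h := d1_brauer_upper p F
  rwa [Nat.card_sum] at h

end Cfsg.Agent.D1
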