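import Cfsg.Agent.D1.CountLower
import Mathlib.GroupTheory.Sylow

/-!
# D1 / CountLowerInfl : the inflated `p'`-count

Blueprint `notes/DefectOne_blueprint_helper7.md`, item (A-lower), second half: the family of
`d1_pprime_lower` for `Q = N ⧸ P`, inflated along `N → N ⧸ P`.  In particular, for `P` a Sylow
`p`-subgroup of `G` and `N = N_G(P)`, a family of `k(N/P)` pairwise non-isomorphic irreducible
`k N`-representations on which `P` acts trivially (`d1_cntl_sylow_family`): the input of
`d1_green_family`.
-/

set_option autoImplicit false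

namespace Cfsg.Agent.D1

open Representation

universe u w

section inflate

variable {k : Type*} [Field k] {N : Type*} [Group N] {Q : Type*} [Group Q]
  {V W : Type*} [AddCommGroup V] [Module k V] [AddCommGroup W] [Module k W]

/-- the pull-back of a representation along a group homomorphism. -/
def d1_cntl_infl (π : N →* Q) (ρ : Representation k Q V) : Representation k N V :=
  MonoidHom.comp ρ π

theorem d1_cntl_infl_apply (π : N →* Q) (ρ : Representation k Q V) (n : N) :
    d1_cntl_infl π ρ n = ρ (π n) := rfl

/-- pulling an irreducible representation back along a surjective homomorphism keeps it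
irreducible. -/
theorem d1_cntl_comp_irr (π : N →* Q) (hπ : Function.Surjective π) (ρ : Representation k Q V)
    (h : ρ.IsIrreducible) : (d1_cntl_infl π ρ).IsIrreducible := by
  have hne : (⊥ : Submodule k V) ≠ ⊤ := by
    intro hbt
    have : (⊥ : Subrepresentation ρ) = ⊤ := Subrepresentation.toSubmodule_injective hbt
    exact bot_ne_top this
  refine { exists_pair_ne := ⟨⊥, ⊤, ?_⟩, eq_bot_or_eq_top := ?_ }
  · intro hbt
    exact hne (congrArg Subrepresentation.toSubmodule hbt)
  · intro S
    let S' : Subrepresentation ρ :=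
      ⟨S.toSubmodule, fun q v hv => by
        obtain ⟨n, rfl⟩ := hπ q
        exact S.apply_mem_toSubmodule n hv⟩
    rcases h.eq_bot_or_eq_top S' with h' | h'
    · left
      have h2 : S'.toSubmodule = (⊥ : Subrepresentation ρ).toSubmodule :=
        congrArg Subrepresentation.toSubmodule h'
      exact Subrepresentation.toSubmodule_injective h2
    · right
      have h2 : S'.toSubmodule = (⊤ : Subrepresentation ρ).toSubmodule :=
        congrArg Subrepresentation.toSubmodule h'
      exact Subrepresentation.toSubmodule_injective h2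

/-- an equivalence between pull-backs along a surjective homomorphism is an equivalence of the
original representations. -/
noncomputable def d1_cntl_comp_equiv (π : N →* Q) (hπ : Function.Surjective π)
    (ρ : Representation k Q V) (σ : Representation k Q W)
    (e : (d1_cntl_infl π ρ).Equiv (d1_cntl_infl π σ)) : ρ.Equiv σ :=
  Representation.Equiv.mk e.toLinearEquiv (fun q => by
    obtain ⟨n, rfl⟩ := hπ q
    exact e.isIntertwining' n)

/-- a family for a quotient, inflated. -/
noncomputable def d1_cntl_inflFam {ι : Type*} (π : N →* Q) (hπ : Function.Surjective π)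
    (F : d1_Fam.{w} k Q ι) : d1_Fam.{w} k N ι where
  V := F.V
  ρ := fun i => d1_cntl_infl π (F.ρ i)
  irr := fun i => d1_cntl_comp_irr π hπ (F.ρ i) (F.irr i)
  pni := fun i j h => F.pni i j ⟨d1_cntl_comp_equiv π hπ (F.ρ i) (F.ρ j) h.some⟩

theorem d1_cntl_inflFam_ker {ι : Type*} (π : N →* Q) (hπ : Function.Surjective π)
    (F : d1_Fam.{w} k Q ι) (i : ι) (x : N) (hx : π x = 1) :
    (d1_cntl_inflFam π hπ F).ρ i x = LinearMap.id := by
  change (F.ρ i) (π x) = LinearMap.id
  rw [hx, map_one]
  rfl

end inflate

/-- (A-lower), inflated: `P ⊴ N` of index invertible in `k`. -/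
theorem d1_cntl_inflated {k : Type} [Field k] [IsAlgClosed k] {N : Type u} [Group N] [Finite N]
    (P : Subgroup N) [P.Normal] (hidx : ((P.index : ℕ) : k) ≠ 0) :
    ∃ F : d1_Fam.{0} k N (ConjClasses (N ⧸ P)), ∀ i (x : N), x ∈ P → F.ρ i x = LinearMap.id := by
  have hQ : (Nat.card (N ⧸ P) : k) ≠ 0 := by
    rw [← Subgroup.index_eq_card]; exact hidx
  obtain ⟨F0⟩ := d1_pprime_lower (k := k) (Q := N ⧸ P) hQ
  refine ⟨d1_cntl_inflFam (QuotientGroup.mk' P) (QuotientGroup.mk'_surjective P) F0, ?_⟩
  intro i x hx
  exact d1_cntl_inflFam_ker _ _ F0 i x ((QuotientGroup.eq_one_iff x).2 hx)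

/-- (A-lower) in the shape consumed by `d1_green_family`: `P` a Sylow `p`-subgroup, `N = N_G(P)`. -/
theorem d1_cntl_sylow_family {k : Type} [Field k] [IsAlgClosed k] (p : ℕ) [Fact p.Prime]
    [CharP k p] {G : Type u} [Group G] [Finite G] (P : Sylow p G) :
    ∃ F : d1_Fam.{0} k (↥(Subgroup.normalizer ((P : Subgroup G) : Set G)))
        (ConjClasses (↥(Subgroup.normalizer ((P : Subgroup G) : Set G)) ⧸
          (P : Subgroup G).subgroupOf (Subgroup.normalizer ((P : Subgroup G) : Set G)))),
      ∀ i (x : ↥(Subgroup.normalizer ((P : Subgroup G) : Set G))),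
        (x : G) ∈ (P : Subgroup G) → F.ρ i x = LinearMap.id := by
  have hPN : (P : Subgroup G) ≤ Subgroup.normalizer ((P : Subgroup G) : Set G) :=
    Subgroup.le_normalizer
  have hPn : ((P : Subgroup G).subgroupOf
      (Subgroup.normalizer ((P : Subgroup G) : Set G))).Normal :=
    Subgroup.normal_in_normalizer
  have hidx : ¬ p ∣
      ((P : Subgroup G).subgroupOf (Subgroup.normalizer ((P : Subgroup G) : Set G))).index := by
    intro h
    have h1 : (P : Subgroup G).relIndex (Subgroup.normalizer ((P : Subgroup G) : Set G)) ∣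
        (P : Subgroup G).index := Subgroup.relIndex_dvd_index_of_le hPN
    exact P.not_dvd_index (h.trans h1)
  have hidx' : ((((P : Subgroup G).subgroupOf
      (Subgroup.normalizer ((P : Subgroup G) : Set G))).index : ℕ) : k) ≠ 0 := by
    intro h
    exact hidx ((CharP.cast_eq_zero_iff k p _).mp h)
  obtain ⟨F, hF⟩ := d1_cntl_inflated (k := k)
    ((P : Subgroup G).subgroupOf (Subgroup.normalizer ((P : Subgroup G) : Set G))) hidx'
  exact ⟨F, fun i x hx => hF i x (Subgroup.mem_subgroupOf.2 hx)⟩

end Cfsg.Agent.D1
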