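import Mathlib

/-!
# D1 / CycTIaux : generic auxiliary lemmas for S4699 (helper7's CycTI line)

* `d1_cyca_sub_one_pow` : in an algebra over a field of characteristic `p`,
  `(y - 1) ^ (p ^ k) = y ^ (p ^ k) - 1`;
* `d1_cyca_geom_sum` : `∑ i < p ^ k, y ^ i = (y - 1) ^ (p ^ k - 1)`;
* `d1_cyca_pow_finrank_eq_zero` : a nilpotent endomorphism `t` of a finite-dimensional space
  satisfies `t ^ finrank = 0`; `d1_cyca_pow_eq_zero_of_finrank_le`.
-/

set_option autoImplicit false

namespace Cfsg.Agent.D1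

open Polynomial

/-- the polynomial identity `∑ i < p ^ k, X ^ i = (X - 1) ^ (p ^ k - 1)` in characteristic `p`. -/
theorem d1_cyca_geom_sum_poly {F : Type*} [Field F] (p : ℕ) [Fact p.Prime] [CharP F p] (k : ℕ) :
    ∑ i ∈ Finset.range (p ^ k), (X : F[X]) ^ i = (X - 1) ^ (p ^ k - 1) := by
  have hpos : 0 < p ^ k := pow_pos (Fact.out : p.Prime).pos k
  have h1 : (∑ i ∈ Finset.range (p ^ k), (X : F[X]) ^ i) * (X - 1) = X ^ (p ^ k) - 1 :=
    geom_sum_mul X (p ^ k)
  have h2 : ((X : F[X]) - 1) ^ (p ^ k - 1) * (X - 1) = X ^ (p ^ k) - 1 := by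
    rw [← pow_succ, Nat.sub_add_cancel hpos, sub_pow_char_pow, one_pow]
  have hne : (X : F[X]) - 1 ≠ 0 := by
    have := X_sub_C_ne_zero (1 : F)
    simpa using this
  exact mul_right_cancel₀ hne (h1.trans h2.symm)

/-- geometric sum in characteristic `p`: `∑ i < p ^ k, y ^ i = (y - 1) ^ (p ^ k - 1)`. -/
theorem d1_cyca_geom_sum {F : Type*} [Field F] (p : ℕ) [Fact p.Prime] [CharP F p]
    {A : Type*} [Ring A] [Algebra F A] (y : A) (k : ℕ) :
    ∑ i ∈ Finset.range (p ^ k), y ^ i = (y - 1) ^ (p ^ k - 1) := by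
  have h := congrArg (aeval (R := F) y) (d1_cyca_geom_sum_poly (F := F) p k)
  simpa using h

/-- `(y - 1) ^ (p ^ k) = y ^ (p ^ k) - 1` in an algebra over a field of characteristic `p`. -/
theorem d1_cyca_sub_one_pow {F : Type*} [Field F] (p : ℕ) [Fact p.Prime] [CharP F p]
    {A : Type*} [Ring A] [Algebra F A] (y : A) (k : ℕ) :
    (y - 1) ^ (p ^ k) = y ^ (p ^ k) - 1 := by
  have h0 : ((X : F[X]) - 1) ^ (p ^ k) = X ^ (p ^ k) - 1 := by
    rw [sub_pow_char_pow, one_pow]
  have h := congrArg (aeval (R := F) y) h0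
  simpa using h

/-- a nilpotent endomorphism of a finite-dimensional space is killed by the `finrank`-th power. -/
theorem d1_cyca_pow_finrank_eq_zero {F : Type*} [Field F] {V : Type*} [AddCommGroup V] [Module F V]
    [FiniteDimensional F V] (t : Module.End F V) (m : ℕ) (hm : t ^ m = 0) :
    t ^ Module.finrank F V = 0 := by
  have h := Module.End.ker_pow_le_ker_pow_finrank t m
  rw [hm] at h
  have htop : LinearMap.ker (t ^ Module.finrank F V) = ⊤ := by
    apply top_le_iff.1
    refine le_trans ?_ h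
    intro v _
    simp
  exact LinearMap.ker_eq_top.1 htop

/-- a nilpotent endomorphism of a space of dimension at most `d` satisfies `t ^ d = 0`. -/
theorem d1_cyca_pow_eq_zero_of_finrank_le {F : Type*} [Field F] {V : Type*} [AddCommGroup V]
    [Module F V] [FiniteDimensional F V] (t : Module.End F V) (m : ℕ) (hm : t ^ m = 0)
    (d : ℕ) (hd : Module.finrank F V ≤ d) : t ^ d = 0 := by
  obtain ⟨c, rfl⟩ := Nat.exists_eq_add_of_le hd
  rw [pow_add, d1_cyca_pow_finrank_eq_zero t m hm, zero_mul]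

end Cfsg.Agent.D1
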