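import Mathlib

/-!
# D1 / CycTIaux2 : a TI Sylow subgroup gives the TI hypothesis of `d1_ti_mackey` for its normalizer
-/

set_option autoImplicit false

namespace Cfsg.Agent.D1

/-- a `p`-element normalizing a Sylow `p`-subgroup lies in it. -/
theorem d1_cyca_mem_sylow_of_normalizer {G : Type*} [Group G] (p : ℕ) [Fact p.Prime]
    (P : Sylow p G) {x : G} (hxN : x ∈ Subgroup.normalizer ((P : Subgroup G) : Set G))
    (hx : IsPGroup p (Subgroup.zpowers x)) : x ∈ (P : Subgroup G) := by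
  have hle : Subgroup.zpowers x ≤ Subgroup.normalizer ((P : Subgroup G) : Set G) :=
    (Subgroup.zpowers_le).2 hxN
  have hsup : IsPGroup p (Subgroup.zpowers x ⊔ (P : Subgroup G) : Subgroup G) :=
    IsPGroup.to_sup_of_normal_right' hx P.2 hle
  have heq : Subgroup.zpowers x ⊔ (P : Subgroup G) = (P : Subgroup G) :=
    P.is_maximal' hsup le_sup_right
  rw [← heq]
  exact (le_sup_left : Subgroup.zpowers x ≤ _) (Subgroup.mem_zpowers x)

/-- an element of prime order `p` generates a `p`-group. -/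
theorem d1_cyca_isPGroup_zpowers {G : Type*} [Group G] (p : ℕ) [Fact p.Prime] {x : G}
    (hx : orderOf x = p) : IsPGroup p (Subgroup.zpowers x) := by
  refine IsPGroup.of_card (n := 1) ?_
  rw [Nat.card_zpowers, hx, pow_one]

/-- if the Sylow `p`-subgroup `P` meets every other Sylow `p`-subgroup trivially then for `g ∉ N_G(P)`
the order of `N_G(P) ∩ N_G(P)^g` is prime to `p`. -/
theorem d1_cyca_ti_not_dvd {G : Type*} [Group G] [Finite G] (p : ℕ) [Fact p.Prime] (P : Sylow p G)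
    (hTI : ∀ Q : Sylow p G, Q ≠ P → (P : Subgroup G) ⊓ (Q : Subgroup G) = ⊥) (g : G)
    (hg : g ∉ Subgroup.normalizer ((P : Subgroup G) : Set G)) :
    ¬ p ∣ Nat.card ↥(Subgroup.normalizer ((P : Subgroup G) : Set G) ⊓
      (Subgroup.normalizer ((P : Subgroup G) : Set G)).map (MulAut.conj g).toMonoidHom) := by
  intro hdvd
  obtain ⟨x, hx⟩ := exists_prime_orderOf_dvd_card' p hdvd
  have hx' : orderOf (x : G) = p := by rw [Subgroup.orderOf_coe]; exact hx
  obtain ⟨h1, h2⟩ := Subgroup.mem_inf.1 x.2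
  have hxP : (x : G) ∈ (P : Subgroup G) :=
    d1_cyca_mem_sylow_of_normalizer p P h1 (d1_cyca_isPGroup_zpowers p hx')
  -- the conjugate
  have h2' : g⁻¹ * (x : G) * g ∈ Subgroup.normalizer ((P : Subgroup G) : Set G) := by
    obtain ⟨s, hs, hsx⟩ := h2
    have : g⁻¹ * (x : G) * g = s := by
      rw [← hsx]; simp [MulAut.conj_apply, mul_assoc]
    rw [this]; exact hs
  have hord : orderOf (g⁻¹ * (x : G) * g) = p := by
    have hsc : SemiconjBy g⁻¹ (x : G) (g⁻¹ * (x : G) * g) := by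
      unfold SemiconjBy; group
    rw [← SemiconjBy.orderOf_eq g⁻¹ hsc]; exact hx'
  have hyP : g⁻¹ * (x : G) * g ∈ (P : Subgroup G) :=
    d1_cyca_mem_sylow_of_normalizer p P h2' (d1_cyca_isPGroup_zpowers p hord)
  -- `x ∈ g • P`
  have hxQ : (x : G) ∈ ((g • P : Sylow p G) : Subgroup G) := by
    rw [Sylow.coe_subgroup_smul]
    refine (Subgroup.mem_pointwise_smul_iff_inv_smul_mem).2 ?_
    have : (MulAut.conj g)⁻¹ • (x : G) = g⁻¹ * (x : G) * g := by
      simp [MulAut.smul_def]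
    rw [this]; exact hyP
  have hne : (g • P : Sylow p G) ≠ P := fun h => hg (Sylow.smul_eq_iff_mem_normalizer.1 h)
  have hbot := hTI (g • P) hne
  have hx1 : (x : G) ∈ (⊥ : Subgroup G) := by
    rw [← hbot]; exact Subgroup.mem_inf.2 ⟨hxP, hxQ⟩
  rw [Subgroup.mem_bot] at hx1
  rw [hx1, orderOf_one] at hx'
  exact (Fact.out : p.Prime).one_lt.ne hx'

/-- the same, in the spelling of `d1_ti_mackey`. -/
theorem d1_cyca_ti_card_ne_zero {G : Type*} [Group G] [Finite G] (p : ℕ) [Fact p.Prime]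
    (P : Sylow p G)
    (hTI : ∀ Q : Sylow p G, Q ≠ P → (P : Subgroup G) ⊓ (Q : Subgroup G) = ⊥)
    {k : Type*} [Field k] [CharP k p] (g : G)
    (hg : g ∉ Subgroup.normalizer ((P : Subgroup G) : Set G)) :
    (Nat.card ↥(Subgroup.normalizer ((P : Subgroup G) : Set G) ⊓
      (Subgroup.normalizer ((P : Subgroup G) : Set G)).map (MulAut.conj g).toMonoidHom) : k) ≠ 0 := by
  intro h
  exact d1_cyca_ti_not_dvd p P hTI g hg ((CharP.cast_eq_zero_iff k p _).1 h)

end Cfsg.Agent.D1
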