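import Cfsg.Agent.D1.Pr
import Cfsg.Agent.D1.CycTIaux

/-!
# D1 / CycTIaux3 : a projective map of a cyclic `p`-group `⟨y⟩` on a `y`-fixed vector

If `y` has order `p ^ j`, `k` has characteristic `p`, and `ρ y v = v`, then
`(Tr_1^{⟨y⟩} φ) v = (σ y - 1) ^ (p ^ j - 1) (φ v)`.
-/

set_option autoImplicit false

namespace Cfsg.Agent.D1

open Cfsg.Agent.BP Representation

set_option linter.unusedSectionVars false

variable {k : Type*} [Field k] {G : Type*} [Group G] [Finite G]
  {V W : Type*} [AddCommGroup V] [Module k V] [AddCommGroup W] [Module k W]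
  {ρ : Representation k G V} {σ : Representation k G W}

/-- a vector fixed by `y` is fixed by the inverse of every power of `y`. -/
theorem d1_cyca_fixed_pow_inv (y : G) (v : V) (hv : ρ y v = v) (i : ℕ) :
    ρ (y ^ i)⁻¹ v = v := by
  have h1 : ρ (y ^ i) v = v := by
    induction i with
    | zero => simp
    | succ n ih =>
      rw [pow_succ, map_mul]
      change ρ (y ^ n) (ρ y v) = v
      rw [hv, ih]
  have h2 : ρ (y ^ i)⁻¹ (ρ (y ^ i) v) = v := by
    rw [← Module.End.mul_apply, ← map_mul, inv_mul_cancel, map_one]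
    rfl
  rw [h1] at h2
  exact h2

/-- the trace from `1` to `⟨y⟩`, evaluated at a `y`-fixed vector, as a sum over exponents. -/
theorem d1_cyca_tr1_zpowers_apply (y : G) (φ : V →ₗ[k] W) (v : V) (hv : ρ y v = v) :
    d1_tr1 ρ σ (Subgroup.zpowers y) φ v
      = (∑ i ∈ Finset.range (orderOf y), (σ y) ^ i) (φ v) := by
  classical
  unfold d1_tr1 d1_trT
  have hset : d1_elems (Subgroup.zpowers y) = (Finset.range (orderOf y)).image (y ^ ·) := by
    ext g
    rw [d1_mem_elems, mem_zpowers_iff_mem_range_orderOf]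
  rw [hset, Finset.sum_image]
  · rw [LinearMap.sum_apply, LinearMap.sum_apply]
    refine Finset.sum_congr rfl (fun i _ => ?_)
    rw [linHom_apply]
    change σ (y ^ i) (φ (ρ (y ^ i)⁻¹ v)) = ((σ y) ^ i) (φ v)
    rw [d1_cyca_fixed_pow_inv y v hv i, map_pow]
  · intro a ha b hb hab
    exact pow_injOn_Iio_orderOf (by simpa using ha) (by simpa using hb) hab

/-- **projective maps of a cyclic `p`-group on fixed vectors**: if `orderOf y = p ^ j` and
`ρ y v = v`, then `(Tr_1^{⟨y⟩} φ) v = (σ y - 1) ^ (p ^ j - 1) (φ v)`. -/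
theorem d1_cyca_tr1_zpowers_fixed (p : ℕ) [Fact p.Prime] [CharP k p] (y : G) (j : ℕ)
    (hy : orderOf y = p ^ j) (φ : V →ₗ[k] W) (v : V) (hv : ρ y v = v) :
    d1_tr1 ρ σ (Subgroup.zpowers y) φ v = ((σ y - 1) ^ (p ^ j - 1)) (φ v) := by
  rw [d1_cyca_tr1_zpowers_apply y φ v hv, hy,
    d1_cyca_geom_sum (F := k) (A := Module.End k W) p (σ y) j]

/-- consequence: if moreover `(σ y - 1) ^ (p ^ j - 1) = 0` then every `⟨y⟩`-projective map kills
the `y`-fixed vectors. -/
theorem d1_cyca_isPr_zpowers_fixed (p : ℕ) [Fact p.Prime] [CharP k p] (y : G) (j : ℕ)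
    (hy : orderOf y = p ^ j) (hnil : (σ y - 1) ^ (p ^ j - 1) = 0) {f : V →ₗ[k] W}
    (hf : d1_IsPr ρ σ (Subgroup.zpowers y) f) (v : V) (hv : ρ y v = v) : f v = 0 := by
  obtain ⟨φ, rfl⟩ := hf
  rw [d1_cyca_tr1_zpowers_fixed p y j hy φ v hv, hnil]
  rfl

end Cfsg.Agent.D1
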