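import Mathlib

/-!
# Defect one, module side: the separation lemma (SEP)

`N` a finite group, `P ⊴ N` of prime order `p = char k`, `|N : P|` invertible in `k`.
`X` any `kN`-module, `T`, `T'` `kN`-modules on which `P` acts trivially, `T` irreducible, with no
non-zero `N`-map `T' → T`; `ι : T → X` a non-zero `N`-map, `ι' : T' → X` an `N`-map.  Then there
is an `N`-endomorphism `a` of `X` with `a ∘ ι = ι` and `a ∘ ι' = 0` (`d1_uniq_sep`).

Together with "every `N`-endomorphism of a simple `kG`-module is a scalar modulo the traces from `1`"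
this shows that a simple `kG`-module sees at most one simple `kN`-module through a map which is not a
trace from `1`; no decomposition into indecomposable modules is needed.
-/

set_option autoImplicit false
set_option linter.style.haveILetI false

namespace Cfsg.Agent.D1

section Ring

variable {R : Type*} [Ring R]

/-- the Frobenius-form element `∑_{i+j=h} z^i m z^j` -/
def d1_uniq_frob (z m : R) (h : ℕ) : R :=
  ∑ q ∈ Finset.HasAntidiagonal.antidiagonal h, z ^ q.1 * m * z ^ q.2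

theorem d1_uniq_frob_commute (z m : R) (h : ℕ) (h1 : m * z ^ (h + 1) = 0)
    (h2 : z ^ (h + 1) * m = 0) : z * d1_uniq_frob z m h = d1_uniq_frob z m h * z := by
  unfold d1_uniq_frob
  have e1 := Finset.Nat.sum_antidiagonal_succ (n := h)
    (f := fun q : ℕ × ℕ => z ^ q.1 * m * z ^ q.2)
  have e2 := Finset.Nat.sum_antidiagonal_succ' (n := h)
    (f := fun q : ℕ × ℕ => z ^ q.1 * m * z ^ q.2)
  simp only [pow_zero, one_mul, mul_one] at e1 e2
  rw [h1, zero_add] at e1
  rw [h2, zero_add] at e2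
  rw [Finset.mul_sum, Finset.sum_mul]
  calc ∑ q ∈ Finset.HasAntidiagonal.antidiagonal h, z * (z ^ q.1 * m * z ^ q.2)
      = ∑ q ∈ Finset.HasAntidiagonal.antidiagonal h, z ^ (q.1 + 1) * m * z ^ q.2 := by
        refine Finset.sum_congr rfl fun q _ => ?_
        rw [pow_succ', mul_assoc, mul_assoc, mul_assoc]
    _ = ∑ q ∈ Finset.HasAntidiagonal.antidiagonal h, z ^ q.1 * m * z ^ (q.2 + 1) := by rw [← e1, e2]
    _ = ∑ q ∈ Finset.HasAntidiagonal.antidiagonal h, z ^ q.1 * m * z ^ q.2 * z := by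
        refine Finset.sum_congr rfl fun q _ => ?_
        rw [pow_succ, mul_assoc, mul_assoc, mul_assoc]

end Ring

section Lin

variable {k : Type*} [Field k] {X T : Type*} [AddCommGroup X] [Module k X]
  [AddCommGroup T] [Module k T]

/-- value of the Frobenius-form endomorphism on the kernel of `z` -/
theorem d1_uniq_frob_apply_ker (z m : Module.End k X) (h : ℕ) (y : X) (hy : z y = 0) :
    d1_uniq_frob z m h y = (z ^ h) (m y) := by
  unfold d1_uniq_frob
  rw [LinearMap.sum_apply, Finset.sum_eq_single (h, 0)]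
  · simp
  · intro q hq hne
    have hq2 : q.2 ≠ 0 := by
      intro h0
      apply hne
      rw [Finset.HasAntidiagonal.mem_antidiagonal] at hq
      ext
      · simp only; omega
      · simp only; omega
    obtain ⟨j, hj⟩ := Nat.exists_eq_succ_of_ne_zero hq2
    rw [Module.End.mul_apply, Module.End.mul_apply, hj, pow_succ, Module.End.mul_apply, hy,
      map_zero, map_zero, map_zero]
  · intro hh
    exact absurd (Finset.HasAntidiagonal.mem_antidiagonal.mpr (by simp)) hh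

/-- **the `P`-level projection**: `z` an endomorphism of `X`, `ι : T → X` injective with image in
`ker z ∩ range (z ^ h)` and meeting `range (z ^ (h + 1))` trivially.  Then there are an endomorphism
`π` commuting with `z` and a retraction `Λ` of `ι` with `π = ι ∘ Λ` on `ker z`. -/
theorem d1_uniq_exists_pi (z : Module.End k X) (ι : T →ₗ[k] X)
    (hz : ∀ t, z (ι t) = 0) (h : ℕ)
    (hle : LinearMap.range ι ≤ LinearMap.range (z ^ h))
    (hdisj : ∀ t, ι t ∈ LinearMap.range (z ^ (h + 1)) → t = 0) :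
    ∃ (π : Module.End k X) (Λ : X →ₗ[k] T), z * π = π * z ∧ Λ ∘ₗ ι = LinearMap.id ∧
      ∀ y, z y = 0 → π y = ι (Λ y) := by
  classical
  set R : Submodule k X := LinearMap.range (z ^ (h + 1)) with hR
  have hker : LinearMap.ker (R.mkQ ∘ₗ ι) = ⊥ := by
    rw [LinearMap.ker_eq_bot']
    intro t ht
    apply hdisj t
    rw [LinearMap.comp_apply, Submodule.mkQ_apply, Submodule.Quotient.mk_eq_zero] at ht
    exact ht
  obtain ⟨g, hg⟩ := LinearMap.exists_leftInverse_of_injective (R.mkQ ∘ₗ ι) hker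
  obtain ⟨g₂, hg₂⟩ := LinearMap.exists_rightInverse_of_surjective ((z ^ h).rangeRestrict)
    (LinearMap.range_rangeRestrict _)
  set Λ : X →ₗ[k] T := g ∘ₗ R.mkQ with hΛ
  set s : T →ₗ[k] X :=
    g₂ ∘ₗ (LinearMap.codRestrict (LinearMap.range (z ^ h)) ι (fun t => hle ⟨t, rfl⟩)) with hs
  have hzs : ∀ t, (z ^ h) (s t) = ι t := by
    intro t
    have h1 := congrArg (fun f => ((f (LinearMap.codRestrict (LinearMap.range (z ^ h)) ι
      (fun t => hle ⟨t, rfl⟩) t) : LinearMap.range (z ^ h)) : X)) hg₂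
    rw [hs, LinearMap.comp_apply]
    simpa using h1
  have hΛι : Λ ∘ₗ ι = LinearMap.id := by
    rw [hΛ, LinearMap.comp_assoc]
    exact hg
  have hΛR : ∀ v, Λ ((z ^ (h + 1)) v) = 0 := by
    intro v
    rw [hΛ, LinearMap.comp_apply, Submodule.mkQ_apply,
      (Submodule.Quotient.mk_eq_zero R).mpr ⟨v, rfl⟩, map_zero]
  set m : Module.End k X := s ∘ₗ Λ with hm
  have h1 : m * z ^ (h + 1) = 0 := by
    ext v
    rw [Module.End.mul_apply, hm, LinearMap.comp_apply, hΛR, map_zero, LinearMap.zero_apply]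
  have h2 : z ^ (h + 1) * m = 0 := by
    ext v
    rw [Module.End.mul_apply, hm, LinearMap.comp_apply, pow_succ', Module.End.mul_apply, hzs, hz,
      LinearMap.zero_apply]
  refine ⟨d1_uniq_frob z m h, Λ, d1_uniq_frob_commute z m h h1 h2, hΛι, fun y hy => ?_⟩
  rw [d1_uniq_frob_apply_ker z m h y hy, hm, LinearMap.comp_apply, hzs]

end Lin

section Av

variable {k : Type*} [Field k] {N : Type*} [Group N] [Finite N] (P : Subgroup N)
  {V₀ V₁ V₂ V₃ : Type*} [AddCommGroup V₀] [Module k V₀] [AddCommGroup V₁] [Module k V₁]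
  [AddCommGroup V₂] [Module k V₂] [AddCommGroup V₃] [Module k V₃]

/-- the average over `N / P` of the conjugates of a linear map (a relative trace divided by the
index) -/
noncomputable def d1_uniq_av (σ₁ : Representation k N V₁) (σ₂ : Representation k N V₂)
    (b : V₁ →ₗ[k] V₂) : V₁ →ₗ[k] V₂ :=
  letI : Fintype (N ⧸ P) := Fintype.ofFinite _
  ((P.index : ℕ) : k)⁻¹ • ∑ c : N ⧸ P, σ₂ c.out ∘ₗ b ∘ₗ σ₁ (c.out)⁻¹

theorem d1_uniq_av_apply (σ₁ : Representation k N V₁) (σ₂ : Representation k N V₂)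
    (b : V₁ →ₗ[k] V₂) (v : V₁) :
    letI : Fintype (N ⧸ P) := Fintype.ofFinite _
    d1_uniq_av P σ₁ σ₂ b v =
      ((P.index : ℕ) : k)⁻¹ • ∑ c : N ⧸ P, σ₂ c.out (b (σ₁ (c.out)⁻¹ v)) := by
  unfold d1_uniq_av
  simp [LinearMap.sum_apply]

/-- composition with an intertwining map on the right -/
theorem d1_uniq_av_comp_right (σ₀ : Representation k N V₀) (σ₁ : Representation k N V₁)
    (σ₂ : Representation k N V₂) (b : V₁ →ₗ[k] V₂) (f : V₀ →ₗ[k] V₁)
    (hf : ∀ n, f ∘ₗ σ₀ n = σ₁ n ∘ₗ f) :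
    d1_uniq_av P σ₁ σ₂ b ∘ₗ f = d1_uniq_av P σ₀ σ₂ (b ∘ₗ f) := by
  ext v
  rw [LinearMap.comp_apply, d1_uniq_av_apply, d1_uniq_av_apply]
  congr 1
  refine Finset.sum_congr rfl fun c _ => ?_
  have h1 := congrArg (fun g => g v) (hf (c.out)⁻¹)
  simp only [LinearMap.comp_apply] at h1
  rw [LinearMap.comp_apply, h1]

/-- composition with an intertwining map on the left -/
theorem d1_uniq_av_comp_left (σ₁ : Representation k N V₁)
    (σ₂ : Representation k N V₂) (σ₃ : Representation k N V₃) (b : V₁ →ₗ[k] V₂)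
    (f : V₂ →ₗ[k] V₃) (hf : ∀ n, f ∘ₗ σ₂ n = σ₃ n ∘ₗ f) :
    f ∘ₗ d1_uniq_av P σ₁ σ₂ b = d1_uniq_av P σ₁ σ₃ (f ∘ₗ b) := by
  ext v
  rw [LinearMap.comp_apply, d1_uniq_av_apply, d1_uniq_av_apply, map_smul, map_sum]
  congr 1
  refine Finset.sum_congr rfl fun c _ => ?_
  have h1 := congrArg (fun g => g (b (σ₁ (c.out)⁻¹ v))) (hf c.out)
  simp only [LinearMap.comp_apply] at h1
  rw [LinearMap.comp_apply, h1]

/-- the average of an intertwining map is the map itself -/
theorem d1_uniq_av_of_intertwining (hidx : ((P.index : ℕ) : k) ≠ 0)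
    (σ₁ : Representation k N V₁) (σ₂ : Representation k N V₂)
    (b : V₁ →ₗ[k] V₂) (hb : ∀ n, b ∘ₗ σ₁ n = σ₂ n ∘ₗ b) :
    d1_uniq_av P σ₁ σ₂ b = b := by
  letI : Fintype (N ⧸ P) := Fintype.ofFinite _
  ext v
  rw [d1_uniq_av_apply]
  have h1 : ∀ c : N ⧸ P, σ₂ c.out (b (σ₁ (c.out)⁻¹ v)) = b v := by
    intro c
    have h2 := congrArg (fun g => g (σ₁ (c.out)⁻¹ v)) (hb c.out)
    simp only [LinearMap.comp_apply] at h2
    rw [← h2, ← Module.End.mul_apply, ← map_mul, mul_inv_cancel, map_one, Module.End.one_apply]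
  rw [Finset.sum_congr rfl (fun c _ => h1 c), Finset.sum_const, Finset.card_univ,
    ← Nat.card_eq_fintype_card, ← Subgroup.index_eq_card, ← Nat.cast_smul_eq_nsmul k,
    smul_smul, inv_mul_cancel₀ hidx, one_smul]

/-- the average of a `P`-map is an `N`-map -/
theorem d1_uniq_av_intertwining (σ₁ : Representation k N V₁) (σ₂ : Representation k N V₂)
    (b : V₁ →ₗ[k] V₂) (hb : ∀ y ∈ P, b ∘ₗ σ₁ y = σ₂ y ∘ₗ b) (n : N) :
    d1_uniq_av P σ₁ σ₂ b ∘ₗ σ₁ n = σ₂ n ∘ₗ d1_uniq_av P σ₁ σ₂ b := by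
  letI : Fintype (N ⧸ P) := Fintype.ofFinite _
  -- the conjugate only depends on the coset
  have hcos : ∀ (g : N) (y : N), y ∈ P → ∀ v,
      σ₂ (g * y) (b (σ₁ (g * y)⁻¹ v)) = σ₂ g (b (σ₁ g⁻¹ v)) := by
    intro g y hy v
    have h2 := congrArg (fun f => f (σ₁ (g * y)⁻¹ v)) (hb y hy)
    simp only [LinearMap.comp_apply] at h2
    rw [map_mul, Module.End.mul_apply, ← h2, ← Module.End.mul_apply, ← map_mul]
    congr 3
    group
  ext v
  rw [LinearMap.comp_apply, LinearMap.comp_apply, d1_uniq_av_apply, d1_uniq_av_apply, map_smul,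
    map_sum]
  congr 1
  -- reindex the right hand side by `c ↦ n⁻¹ • c`
  rw [← Equiv.sum_comp (MulAction.toPerm n : N ⧸ P ≃ N ⧸ P)
    (fun c => σ₂ c.out (b (σ₁ (c.out)⁻¹ (σ₁ n v))))]
  refine Finset.sum_congr rfl fun c _ => ?_
  rw [MulAction.toPerm_apply]
  obtain ⟨y, hy⟩ := QuotientGroup.mk_out_eq_mul P (n * c.out)
  have hc : (n • c : N ⧸ P) = QuotientGroup.mk (n * c.out) := by
    conv_lhs => rw [← QuotientGroup.out_eq' c]
    rfl
  rw [hc, hy, hcos (n * c.out) y y.2, map_mul, Module.End.mul_apply]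
  congr 2
  rw [← Module.End.mul_apply, ← map_mul]
  congr 2
  group

end Av

section Main

variable {k : Type*} [Field k] (p : ℕ) [hp : Fact p.Prime] [CharP k p]
  {N : Type*} [Group N] [Finite N] (P : Subgroup N) [hPn : P.Normal]
  {X T T' : Type*} [AddCommGroup X] [Module k X] [AddCommGroup T] [Module k T]
  [AddCommGroup T'] [Module k T']

omit [Finite N] in
/-- `(ρ x - 1) ^ p = 0` when `x ^ p = 1`, in characteristic `p` -/
theorem d1_uniq_sub_one_pow (ρ : Representation k N X) (x : N) (hx : x ^ p = 1) :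
    (ρ x - 1) ^ p = 0 := by
  have h1 : ((Polynomial.X : Polynomial k) - 1) ^ p = Polynomial.X ^ p - 1 := by
    rw [sub_pow_char, one_pow]
  have h2 := congrArg (Polynomial.aeval (ρ x)) h1
  simp only [map_pow, map_sub, Polynomial.aeval_X, map_one] at h2
  rw [h2, ← map_pow, hx, map_one, sub_self]

omit [Finite N] in
/-- the ranges of the powers of `ρ x - 1` are stable under the elements normalizing `⟨x⟩` -/
theorem d1_uniq_range_stable (ρ : Representation k N X) (x n : N) (j : ℕ)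
    (hn : n * x * n⁻¹ = x ^ j) (i : ℕ) (v : X) (hv : v ∈ LinearMap.range ((ρ x - 1) ^ i)) :
    ρ n v ∈ LinearMap.range ((ρ x - 1) ^ i) := by
  set z : Module.End k X := ρ x - 1 with hz
  set q : Module.End k X := ∑ l ∈ Finset.range j, ρ x ^ l with hq
  have hzq : z * q = ρ x ^ j - 1 := mul_geom_sum (ρ x) j
  have hc : Commute z q := by
    apply Commute.sum_right
    intro l _
    exact ((Commute.refl (ρ x)).sub_left (Commute.one_left _)).pow_right l
  have hnx : n * x = x ^ j * n := by rw [← hn]; group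
  have hsc : SemiconjBy (ρ n) z (z * q) := by
    unfold SemiconjBy
    rw [hzq, hz, mul_sub, sub_mul, mul_one, one_mul, ← map_mul, hnx, map_mul, map_pow]
  have hsci : SemiconjBy (ρ n) (z ^ i) ((z * q) ^ i) := hsc.pow_right i
  obtain ⟨w, rfl⟩ := hv
  refine ⟨(q ^ i) (ρ n w), ?_⟩
  have h1 := congrArg (fun f : Module.End k X => f w) hsci.eq
  simp only [Module.End.mul_apply] at h1
  rw [h1, hc.mul_pow, Module.End.mul_apply]

/-- **(SEP)**, with a chosen generator `x` of `P` and irreducibility in elementary form -/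
theorem d1_uniq_sep_aux (hidx : ((P.index : ℕ) : k) ≠ 0)
    (x : N) (hxP : x ∈ P) (hxp : x ^ p = 1) (hgen : ∀ y ∈ P, ∃ j : ℕ, y = x ^ j)
    (ρ : Representation k N X) (τ : Representation k N T) (τ' : Representation k N T')
    (hirr : ∀ S : Submodule k T, (∀ n, ∀ t ∈ S, τ n t ∈ S) → S = ⊥ ∨ S = ⊤)
    (hτP : ∀ y ∈ P, τ y = LinearMap.id) (hτ'P : ∀ y ∈ P, τ' y = LinearMap.id)
    (hne : ∀ g : T' →ₗ[k] T, (∀ n, g ∘ₗ τ' n = τ n ∘ₗ g) → g = 0)
    (ι : T →ₗ[k] X) (hι : ∀ n, ι ∘ₗ τ n = ρ n ∘ₗ ι) (hι0 : ι ≠ 0)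
    (ι' : T' →ₗ[k] X) (hι' : ∀ n, ι' ∘ₗ τ' n = ρ n ∘ₗ ι') :
    ∃ a : X →ₗ[k] X, (∀ n, a ∘ₗ ρ n = ρ n ∘ₗ a) ∧ a ∘ₗ ι = ι ∧ a ∘ₗ ι' = 0 := by
  classical
  set z : Module.End k X := ρ x - 1 with hz
  have hιn : ∀ n t, ι (τ n t) = ρ n (ι t) := fun n t => by
    have := congrArg (fun f => f t) (hι n)
    simpa using this
  have hι'n : ∀ n t, ι' (τ' n t) = ρ n (ι' t) := fun n t => by
    have := congrArg (fun f => f t) (hι' n)
    simpa using this
  have hzι : ∀ t, z (ι t) = 0 := by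
    intro t
    rw [hz, LinearMap.sub_apply, Module.End.one_apply, ← hιn, hτP x hxP, LinearMap.id_apply,
      sub_self]
  have hzι' : ∀ t, z (ι' t) = 0 := by
    intro t
    rw [hz, LinearMap.sub_apply, Module.End.one_apply, ← hι'n, hτ'P x hxP, LinearMap.id_apply,
      sub_self]
  have hst : ∀ (i : ℕ) (n : N) (v : X), v ∈ LinearMap.range (z ^ i) →
      ρ n v ∈ LinearMap.range (z ^ i) := by
    intro i n v hv
    obtain ⟨j, hj⟩ := hgen (n * x * n⁻¹) (hPn.conj_mem x hxP n)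
    exact d1_uniq_range_stable ρ x n j hj i v hv
  set S : ℕ → Submodule k T := fun i => Submodule.comap ι (LinearMap.range (z ^ i)) with hSdef
  have hS : ∀ i, S i = ⊥ ∨ S i = ⊤ := fun i => hirr (S i) (fun n t ht => by
    show ι (τ n t) ∈ LinearMap.range (z ^ i)
    rw [hιn]
    exact hst i n _ ht)
  have hS0 : S 0 = ⊤ := by
    rw [hSdef]
    ext t
    simp
  have hSp : S p ≠ ⊤ := by
    intro htop
    apply hι0
    ext t
    have ht : t ∈ S p := by rw [htop]; trivial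
    have ht' : ι t ∈ LinearMap.range (z ^ p) := ht
    rw [hz, d1_uniq_sub_one_pow p ρ x hxp] at ht'
    obtain ⟨w, hw⟩ := ht'
    rw [← hw]
    simp
  set h := Nat.findGreatest (fun i => S i = ⊤) p with hh
  have hSh : S h = ⊤ := Nat.findGreatest_spec (P := fun i => S i = ⊤) (Nat.zero_le p) hS0
  have hSh1 : S (h + 1) = ⊥ := by
    rcases hS (h + 1) with h1 | h1
    · exact h1
    · exfalso
      rcases Nat.lt_or_ge h p with hlt | hge
      · exact Nat.findGreatest_is_greatest (P := fun i => S i = ⊤) (Nat.lt_succ_self h) hlt h1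
      · have hle : h ≤ p := Nat.findGreatest_le p
        have : h = p := le_antisymm hle hge
        rw [this] at hSh
        exact hSp hSh
  have hle : LinearMap.range ι ≤ LinearMap.range (z ^ h) := by
    rintro _ ⟨t, rfl⟩
    have ht : t ∈ S h := by rw [hSh]; trivial
    exact ht
  have hdisj : ∀ t, ι t ∈ LinearMap.range (z ^ (h + 1)) → t = 0 := by
    intro t ht
    have ht' : t ∈ S (h + 1) := ht
    rw [hSh1] at ht'
    exact (Submodule.mem_bot k).mp ht'
  obtain ⟨π, Λ, hcomm, hΛι, hπ⟩ := d1_uniq_exists_pi z ι hzι h hle hdisj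
  have hΛι' : ∀ t, Λ (ι t) = t := fun t => by
    have := congrArg (fun f => f t) hΛι
    simpa using this
  have hπx : Commute π (ρ x) := by
    have h1 : ρ x = z + 1 := by rw [hz]; abel
    rw [h1]
    exact Commute.add_right (show π * z = z * π from hcomm.symm) (Commute.one_right _)
  have hπP : ∀ y ∈ P, π ∘ₗ ρ y = ρ y ∘ₗ π := by
    intro y hy
    obtain ⟨j, rfl⟩ := hgen y hy
    rw [map_pow]
    exact (hπx.pow_right j).eq
  refine ⟨d1_uniq_av P ρ ρ π, fun n => d1_uniq_av_intertwining P ρ ρ π hπP n, ?_, ?_⟩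
  · rw [d1_uniq_av_comp_right P τ ρ ρ π ι hι]
    have h1 : π ∘ₗ ι = ι := by
      ext t
      rw [LinearMap.comp_apply, hπ _ (hzι t), hΛι']
    rw [h1]
    exact d1_uniq_av_of_intertwining P hidx τ ρ ι hι
  · rw [d1_uniq_av_comp_right P τ' ρ ρ π ι' hι']
    have h1 : π ∘ₗ ι' = ι ∘ₗ (Λ ∘ₗ ι') := by
      ext t
      rw [LinearMap.comp_apply, hπ _ (hzι' t), LinearMap.comp_apply, LinearMap.comp_apply]
    rw [h1, ← d1_uniq_av_comp_left P τ' τ ρ (Λ ∘ₗ ι') ι hι]
    have h0 : d1_uniq_av P τ' τ (Λ ∘ₗ ι') = 0 :=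
      hne _ (fun n => d1_uniq_av_intertwining P τ' τ _ (fun y hy => by
        rw [hτP y hy, hτ'P y hy, LinearMap.comp_id, LinearMap.id_comp]) n)
    rw [h0, LinearMap.comp_zero]

omit hPn in
/-- a generator of a subgroup of prime order -/
theorem d1_uniq_exists_gen (hP : Nat.card P = p) :
    ∃ x : N, x ∈ P ∧ x ^ p = 1 ∧ ∀ y ∈ P, ∃ j : ℕ, y = x ^ j := by
  haveI : IsCyclic P := isCyclic_of_prime_card hP
  obtain ⟨g, hg⟩ := IsCyclic.exists_generator (α := P)
  refine ⟨(g : N), g.2, ?_, fun y hy => ?_⟩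
  · have h1 : g ^ Nat.card P = 1 := pow_card_eq_one'
    rw [hP] at h1
    have h2 := congrArg (fun a : P => (a : N)) h1
    simpa using h2
  · have h1 : (⟨y, hy⟩ : P) ∈ Subgroup.zpowers g := hg ⟨y, hy⟩
    rw [← (isOfFinOrder_of_finite g).mem_powers_iff_mem_zpowers] at h1
    obtain ⟨j, hj⟩ := h1
    refine ⟨j, ?_⟩
    have h2 := congrArg (fun a : P => (a : N)) hj
    simpa using h2.symm

/-- **(SEP), the separation lemma.**  `P ⊴ N` of prime order `p = char k`, `|N : P|` invertible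
in `k`; `τ` irreducible, `P` acts trivially on `τ` and `τ'`, every intertwining map `τ' → τ`
vanishes; `ι : τ → ρ` a non-zero intertwining map, `ι' : τ' → ρ` an intertwining map.  Then some
`N`-endomorphism of `ρ` fixes `ι` and kills `ι'`. -/
theorem d1_uniq_sep (hP : Nat.card P = p) (hidx : ((P.index : ℕ) : k) ≠ 0)
    (ρ : Representation k N X) (τ : Representation k N T) (τ' : Representation k N T')
    [hτ : τ.IsIrreducible]
    (hτP : ∀ y ∈ P, τ y = LinearMap.id) (hτ'P : ∀ y ∈ P, τ' y = LinearMap.id)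
    (hne : ∀ g : T' →ₗ[k] T, (∀ n, g ∘ₗ τ' n = τ n ∘ₗ g) → g = 0)
    (ι : T →ₗ[k] X) (hι : ∀ n, ι ∘ₗ τ n = ρ n ∘ₗ ι) (hι0 : ι ≠ 0)
    (ι' : T' →ₗ[k] X) (hι' : ∀ n, ι' ∘ₗ τ' n = ρ n ∘ₗ ι') :
    ∃ a : X →ₗ[k] X, (∀ n, a ∘ₗ ρ n = ρ n ∘ₗ a) ∧ a ∘ₗ ι = ι ∧ a ∘ₗ ι' = 0 := by
  obtain ⟨x, hxP, hxp, hgen⟩ := d1_uniq_exists_gen p P hP
  refine d1_uniq_sep_aux p P hidx x hxP hxp hgen ρ τ τ' (fun S hS => ?_) hτP hτ'P hne ι hι hι0
    ι' hι'
  rcases eq_bot_or_eq_top (⟨S, fun g v hv => hS g v hv⟩ : Subrepresentation τ) with h | h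
  · left
    exact congrArg Subrepresentation.toSubmodule h
  · right
    exact congrArg Subrepresentation.toSubmodule h

omit hp [Finite N] hPn in
/-- `|N : P|` is invertible in `k` when `p ∤ |N : P|` -/
theorem d1_uniq_index_ne_zero (hidx : ¬ p ∣ P.index) : ((P.index : ℕ) : k) ≠ 0 := by
  intro h
  exact hidx ((CharP.cast_eq_zero_iff k p _).mp h)

/-- **(SEP)** in the language of `IntertwiningMap` and `Representation.Equiv` -/
theorem d1_uniq_sep' (hP : Nat.card P = p) (hidx : ¬ p ∣ P.index)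
    (ρ : Representation k N X) (τ : Representation k N T) (τ' : Representation k N T')
    [hτ : τ.IsIrreducible] [hτ' : τ'.IsIrreducible]
    (hτP : ∀ y ∈ P, τ y = LinearMap.id) (hτ'P : ∀ y ∈ P, τ' y = LinearMap.id)
    (hne : IsEmpty (τ'.Equiv τ))
    (ι : Representation.IntertwiningMap τ ρ) (hι0 : ι ≠ 0)
    (ι' : Representation.IntertwiningMap τ' ρ) :
    ∃ a : Representation.IntertwiningMap ρ ρ, a.comp ι = ι ∧ a.comp ι' = 0 := by
  have hne' : ∀ g : T' →ₗ[k] T, (∀ n, g ∘ₗ τ' n = τ n ∘ₗ g) → g = 0 := by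
    intro g hg
    have h1 : (⟨g, hg⟩ : Representation.IntertwiningMap τ' τ) = 0 := Subsingleton.elim _ _
    exact congrArg Representation.IntertwiningMap.toLinearMap h1
  have hι0' : ι.toLinearMap ≠ 0 := fun h => hι0 (Representation.IntertwiningMap.ext h)
  obtain ⟨a, ha, h1, h2⟩ := d1_uniq_sep p P hP (d1_uniq_index_ne_zero p P hidx) ρ τ τ' hτP hτ'P hne'
    ι.toLinearMap ι.isIntertwining' hι0' ι'.toLinearMap ι'.isIntertwining'
  exact ⟨⟨a, ha⟩, Representation.IntertwiningMap.ext h1, Representation.IntertwiningMap.ext h2⟩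

end Main

end Cfsg.Agent.D1
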