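import Cfsg.Agent.D1.Ind
import Cfsg.Agent.D1.Uniq
import Cfsg.Agent.D1.Fam

/-!
# D1 / Green : from simple `N`-modules to non-projective simple `G`-modules, injectively

Blueprint `notes/DefectOne_blueprint_helper7.md`, sections 1.3-1.5, in helper5's simplified form:
(E) every `N`-endomorphism of a simple `kG`-module is a scalar modulo `N`-projective maps
(TI-Mackey + Schur); (UNIQ) with helper5's separation lemma `d1_uniq_sep'`, a simple `kG`-module
sees at most one simple `kN`-module through a non-projective map; `d1_green_family`.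
-/

set_option autoImplicit false

namespace Cfsg.Agent.D1

open Cfsg.Agent.BP Representation

universe u v w

set_option linter.unusedSectionVars false
set_option linter.style.haveILetI false

variable {k : Type*} [Field k] {G : Type u} [Group G] [Finite G]

/-- an element of order `p` normalizing a Sylow `p`-subgroup lies in it. -/
theorem d1_mem_sylow_of_mem_normalizer (p : ℕ) [hp : Fact p.Prime] (Q : Sylow p G) (z : G)
    (hz : orderOf z = p) (hzN : z ∈ Subgroup.normalizer ((Q : Subgroup G) : Set G)) :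
    z ∈ (Q : Subgroup G) := by
  have hpz : IsPGroup p (Subgroup.zpowers z) := by
    rw [IsPGroup.iff_card, Nat.card_zpowers, hz]
    exact ⟨1, (pow_one p).symm⟩
  have hle : Subgroup.zpowers z ≤ Subgroup.normalizer ((Q : Subgroup G) : Set G) := by
    rw [Subgroup.zpowers_le]; exact hzN
  have h1 : IsPGroup p (Subgroup.zpowers z ⊔ (Q : Subgroup G) : Subgroup G) :=
    IsPGroup.to_sup_of_normal_right' hpz Q.isPGroup' hle
  have h2 := Q.is_maximal' h1 le_sup_right
  have : z ∈ Subgroup.zpowers z ⊔ (Q : Subgroup G) :=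
    (le_sup_left : Subgroup.zpowers z ≤ _) (Subgroup.mem_zpowers z)
  rwa [h2] at this

/-- the normalizer of a Sylow subgroup of prime order is a TI-like subgroup: `N ∩ gNg⁻¹` has order
prime to `p` for `g ∉ N`. -/
theorem d1_ti_normalizer (p : ℕ) [hp : Fact p.Prime] (P : Sylow p G) (hP : Nat.card P = p) (g : G)
    (hg : g ∉ Subgroup.normalizer ((P : Subgroup G) : Set G)) :
    ¬ p ∣ Nat.card ↥(Subgroup.normalizer ((P : Subgroup G) : Set G) ⊓
      (Subgroup.normalizer ((P : Subgroup G) : Set G)).map (MulAut.conj g).toMonoidHom) := by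
  classical
  intro hdvd
  set N := Subgroup.normalizer ((P : Subgroup G) : Set G) with hN
  obtain ⟨y, hy⟩ := exists_prime_orderOf_dvd_card' (G := ↥(N ⊓ N.map (MulAut.conj g).toMonoidHom))
    p hdvd
  have hyord : orderOf (y : G) = p := by
    rw [← hy]; exact Subgroup.orderOf_coe y
  have hyN : (y : G) ∈ N := (Subgroup.mem_inf.1 y.2).1
  have hyNg : g⁻¹ * (y : G) * g ∈ N := (bp_mem_map_conj g N _).1 (Subgroup.mem_inf.1 y.2).2
  have hord2 : orderOf (g⁻¹ * (y : G) * g) = p := by
    have : g⁻¹ * (y : G) * g = (MulAut.conj g⁻¹).toMonoidHom (y : G) := by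
      simp
    rw [this, orderOf_injective _ (MulAut.conj g⁻¹).injective]
    exact hyord
  have h1 : (y : G) ∈ (P : Subgroup G) := d1_mem_sylow_of_mem_normalizer p P _ hyord hyN
  have h2 : g⁻¹ * (y : G) * g ∈ (P : Subgroup G) :=
    d1_mem_sylow_of_mem_normalizer p P _ hord2 hyNg
  -- both generate `P`
  have hgen : ∀ z : G, orderOf z = p → z ∈ (P : Subgroup G) →
      Subgroup.zpowers z = (P : Subgroup G) := by
    intro z hz hzP
    have hle : Subgroup.zpowers z ≤ (P : Subgroup G) := by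
      rw [Subgroup.zpowers_le]; exact hzP
    apply Subgroup.eq_of_le_of_card_ge hle
    rw [Nat.card_zpowers, hz, hP]
  have e1 := hgen _ hyord h1
  have e2 := hgen _ hord2 h2
  apply hg
  -- `g⁻¹ P g = P`
  have hpow : ∀ n : ℤ, (g⁻¹ * (y : G) * g) ^ n = g⁻¹ * (y : G) ^ n * g := by
    intro n
    have := conj_zpow (a := g⁻¹) (b := (y : G)) (i := n)
    simpa using this
  have hconj : ∀ x : G, x ∈ (P : Subgroup G) → g⁻¹ * x * g⁻¹⁻¹ ∈ (P : Subgroup G) := by
    intro x hx
    rw [← e1] at hx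
    obtain ⟨n, rfl⟩ := Subgroup.mem_zpowers_iff.1 hx
    rw [← e2, inv_inv]
    exact Subgroup.mem_zpowers_iff.2 ⟨n, hpow n⟩
  have h3 : g⁻¹ ∈ Subgroup.normalizer ((P : Subgroup G) : Set G) :=
    Subgroup.mem_normalizer_fintype hconj
  have h4 := Subgroup.inv_mem _ h3
  rwa [inv_inv] at h4

/-- the TI-hypothesis of `d1_ti_mackey` for the normalizer of a Sylow subgroup of prime order, in
characteristic `p`. -/
theorem d1_ti_normalizer_cast (p : ℕ) [hp : Fact p.Prime] [CharP k p] (P : Sylow p G)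
    (hP : Nat.card P = p) (g : G) (hg : g ∉ Subgroup.normalizer ((P : Subgroup G) : Set G)) :
    (Nat.card ↥(Subgroup.normalizer ((P : Subgroup G) : Set G) ⊓
      (Subgroup.normalizer ((P : Subgroup G) : Set G)).map (MulAut.conj g).toMonoidHom) : k) ≠ 0 := by
  intro h
  exact d1_ti_normalizer p P hP g hg ((CharP.cast_eq_zero_iff k p _).1 h)

section E

variable [IsAlgClosed k] {S : Type*} [AddCommGroup S] [Module k S] [FiniteDimensional k S]
  (ρS : Representation k G S) [hirr : ρS.IsIrreducible]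

include hirr in
/-- **(E)** every `N`-endomorphism of a simple `G`-representation is a scalar modulo `N`-projective
maps, for a TI-like subgroup `N`. -/
theorem d1_end_scalar {N : Subgroup G}
    (hTI : ∀ g : G, g ∉ N → (Nat.card ↥(N ⊓ N.map (MulAut.conj g).toMonoidHom) : k) ≠ 0)
    {a : S →ₗ[k] S} (ha : d1_IsHom ρS ρS N a) :
    ∃ c : k, d1_IsPr ρS ρS N (a - c • LinearMap.id) := by
  have hT : bp_IsLT (bp_transv N (⊤ : Subgroup G)) N ⊤ := bp_transv_isLT le_top
  set b := d1_trT (linHom ρS ρS) (bp_transv N (⊤ : Subgroup G)) a with hb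
  have hbG : d1_IsHom ρS ρS ⊤ b := d1_trT_isFix hT ha
  set bI : IntertwiningMap ρS ρS := ⟨b, fun g => d1_isHom_iff.1 hbG g (Subgroup.mem_top g)⟩
    with hbI
  obtain ⟨c, hc⟩ :=
    (IsIrreducible.algebraMap_intertwiningMap_bijective_of_isAlgClosed (ρ := ρS)).2 bI
  have hbc : b = c • LinearMap.id := by
    have := congrArg IntertwiningMap.toLinearMap hc
    rw [IntertwiningMap.algebraMap_apply] at this
    rw [← show bI.toLinearMap = b from rfl, ← this]
    rfl
  refine ⟨c, ?_⟩
  have h1 := d1_ti_mackey hTI ha hT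
  rw [← hb, hbc] at h1
  have h2 := h1.smul (-1 : k)
  have e : (-1 : k) • (c • LinearMap.id - a) = a - c • (LinearMap.id : S →ₗ[k] S) := by
    rw [neg_one_smul, neg_sub]
  rwa [e] at h2

end E

section Uniq

variable [IsAlgClosed k] (p : ℕ) [hp : Fact p.Prime] [CharP k p] {N : Subgroup G}
  (P' : Subgroup ↥N) [hPn : P'.Normal]
  {S : Type*} [AddCommGroup S] [Module k S] [FiniteDimensional k S]
  (ρS : Representation k G S) [hirr : ρS.IsIrreducible]
  {T T' : Type*} [AddCommGroup T] [Module k T] [AddCommGroup T'] [Module k T']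
  (τ : Representation k ↥N T) (τ' : Representation k ↥N T')
  [hτ : τ.IsIrreducible] [hτ' : τ'.IsIrreducible]

include hirr hPn hτ hτ' in
/-- **(UNIQ)** a simple `G`-representation sees at most one simple `N`-representation (with trivial
`P`-action) through a non-projective `N`-map. -/
theorem d1_witness_unique (hP' : Nat.card P' = p) (hidx : ¬ p ∣ P'.index)
    (hTI : ∀ g : G, g ∉ N → (Nat.card ↥(N ⊓ N.map (MulAut.conj g).toMonoidHom) : k) ≠ 0)
    (hτP : ∀ y ∈ P', τ y = LinearMap.id) (hτ'P : ∀ y ∈ P', τ' y = LinearMap.id)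
    (ι : T →ₗ[k] S) (hι : d1_IsHom τ (ρS.comp N.subtype) ⊤ ι)
    (hnp : ¬ d1_IsPr τ (ρS.comp N.subtype) ⊤ ι)
    (ι' : T' →ₗ[k] S) (hι' : d1_IsHom τ' (ρS.comp N.subtype) ⊤ ι')
    (hnp' : ¬ d1_IsPr τ' (ρS.comp N.subtype) ⊤ ι') : Nonempty (τ'.Equiv τ) := by
  by_contra hne
  rw [not_nonempty_iff] at hne
  set ρN := ρS.comp N.subtype with hρN
  set ιI : IntertwiningMap τ ρN := ⟨ι, fun n => d1_isHom_iff.1 hι n (Subgroup.mem_top n)⟩ with hιI
  set ιI' : IntertwiningMap τ' ρN := ⟨ι', fun n => d1_isHom_iff.1 hι' n (Subgroup.mem_top n)⟩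
    with hιI'
  have hι0 : ιI ≠ 0 := by
    intro h
    apply hnp
    have : ι = 0 := congrArg IntertwiningMap.toLinearMap h
    rw [this]
    exact d1_isPr_zero _
  obtain ⟨aI, h1, h2⟩ := d1_uniq_sep' p P' hP' hidx ρN τ τ' hτP hτ'P hne ιI hι0 ιI'
  set a : S →ₗ[k] S := aI.toLinearMap with ha
  have h1' : a ∘ₗ ι = ι := congrArg IntertwiningMap.toLinearMap h1
  have h2' : a ∘ₗ ι' = 0 := congrArg IntertwiningMap.toLinearMap h2
  have haN' : d1_IsHom ρN ρN ⊤ a := d1_isHom_iff.2 (fun n _ => aI.isIntertwining' n)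
  have haN : d1_IsHom ρS ρS N a := (d1_isHom_comp_subtype_iff N).1 haN'
  obtain ⟨c, hc⟩ := d1_end_scalar ρS hTI haN
  have hc' : d1_IsPr ρN ρN ⊤ (a - c • LinearMap.id) := (d1_isPr_comp_subtype_iff N).2 hc
  -- `c = 1`
  have e1 : (a - c • LinearMap.id) ∘ₗ ι = (1 - c) • ι := by
    rw [LinearMap.sub_comp, h1', LinearMap.smul_comp, LinearMap.id_comp, sub_smul, one_smul]
  have hc1 : c = 1 := by
    by_contra hne1
    apply hnp
    have h3 : d1_IsPr τ ρN ⊤ ((1 - c) • ι) := e1 ▸ hc'.comp_right hι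
    have h4 := h3.smul (1 - c)⁻¹
    rwa [smul_smul, inv_mul_cancel₀ (sub_ne_zero.2 (Ne.symm hne1)), one_smul] at h4
  apply hnp'
  have e2 : (a - c • LinearMap.id) ∘ₗ ι' = (-1 : k) • ι' := by
    rw [LinearMap.sub_comp, h2', LinearMap.smul_comp, LinearMap.id_comp, hc1, one_smul, zero_sub,
      neg_one_smul]
  have h5 : d1_IsPr τ' ρN ⊤ ((-1 : k) • ι') := e2 ▸ hc'.comp_right hι'
  have h6 := h5.smul (-1 : k)
  rwa [smul_smul, neg_one_mul, neg_neg, one_smul] at h6

end Uniq

section Family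

variable [IsAlgClosed k] (p : ℕ) [hp : Fact p.Prime] [CharP k p]

/-- an irreducible representation lives on a nontrivial space. -/
theorem d1_nontrivial_of_irr {Γ : Type*} [Group Γ] {V : Type*} [AddCommGroup V] [Module k V]
    (ρ : Representation k Γ V) [h : ρ.IsIrreducible] : Nontrivial V := by
  by_contra hn
  rw [not_nontrivial_iff_subsingleton] at hn
  obtain ⟨a, b, hab⟩ := h.toNontrivial
  apply hab
  apply Subrepresentation.toSubmodule_injective
  exact Subsingleton.elim _ _

/-- **(Green count)**, general form: `N ≤ G` TI-like, `P₀ ⊴ N` of order `p = char k` and index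
prime to `p`. -/
theorem d1_green_family_aux (N P₀ : Subgroup G) (hPN : P₀ ≤ N) [hPn : (P₀.subgroupOf N).Normal]
    (hP : Nat.card P₀ = p) (hidx : ¬ p ∣ (P₀.subgroupOf N).index)
    (hTI : ∀ g : G, g ∉ N → (Nat.card ↥(N ⊓ N.map (MulAut.conj g).toMonoidHom) : k) ≠ 0)
    {ι : Type*} (F : d1_Fam.{w} k ↥N ι)
    (htriv : ∀ i (x : ↥N), (x : G) ∈ P₀ → F.ρ i x = LinearMap.id) :
    ∃ F' : d1_Fam.{max u w} k G ι, ∀ i, ¬ d1_IsTrProj (F'.ρ i) ⊤ := by
  classical
  have hP0 : (Nat.card P₀ : k) = 0 := by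
    rw [hP]; exact CharP.cast_eq_zero k p
  have hP'card : Nat.card (P₀.subgroupOf N) = p := by
    rw [Nat.card_congr (Subgroup.subgroupOfEquivOfLe hPN).toEquiv]
    exact hP
  have hirrF : ∀ i, (F.ρ i).IsIrreducible := F.irr
  have hnt : ∀ i, Nontrivial (F.V i) := fun i => d1_nontrivial_of_irr (F.ρ i)
  have hW : ∀ i, Nonempty (d1_Witness.{u, w, max u w} N (F.ρ i)) := fun i =>
    haveI := hnt i
    d1_exists_witness_of_trivial (F.ρ i) P₀ hPN hP0 (htriv i)
  choose W _ using fun i => (⟨Classical.choice (hW i), trivial⟩ :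
    ∃ _ : d1_Witness.{u, w, max u w} N (F.ρ i), True)
  letI : ∀ i, AddCommGroup (W i).S := fun i => (W i).acg
  letI : ∀ i, Module k (W i).S := fun i => (W i).mod
  have hfd : ∀ i, FiniteDimensional k (W i).S := fun i => (W i).fd
  have hirrW : ∀ i, ((W i).ρ).IsIrreducible := fun i => (W i).irr
  refine ⟨{ V := fun i => (W i).S, ρ := fun i => (W i).ρ, irr := fun i => (W i).irr, pni := ?_ },
    ?_⟩
  · rintro i j ⟨e⟩
    apply F.pni i j
    -- transport the witness map of `i` to `S_j`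
    have heG : d1_IsHom (W i).ρ (W j).ρ ⊤ e.toLinearMap :=
      d1_isHom_iff.2 (fun g _ => e.isIntertwining' g)
    have heN : d1_IsHom ((W i).ρ.comp N.subtype) ((W j).ρ.comp N.subtype) ⊤ e.toLinearMap :=
      (d1_isHom_comp_subtype_iff N).2 (heG.mono le_top)
    have hesG : d1_IsHom (W j).ρ (W i).ρ ⊤ e.symm.toLinearMap :=
      d1_isHom_iff.2 (fun g _ => e.symm.isIntertwining' g)
    have hesN : d1_IsHom ((W j).ρ.comp N.subtype) ((W i).ρ.comp N.subtype) ⊤ e.symm.toLinearMap :=
      (d1_isHom_comp_subtype_iff N).2 (hesG.mono le_top)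
    have hι' : d1_IsHom (F.ρ i) ((W j).ρ.comp N.subtype) ⊤ (e.toLinearMap ∘ₗ (W i).ι) :=
      (W i).hom.comp heN
    have hnp' : ¬ d1_IsPr (F.ρ i) ((W j).ρ.comp N.subtype) ⊤ (e.toLinearMap ∘ₗ (W i).ι) := by
      intro hpr
      apply (W i).npr
      have h1 := hpr.comp_left hesN
      have h2 : e.symm.toLinearMap ∘ₗ (e.toLinearMap ∘ₗ (W i).ι) = (W i).ι := by
        ext v
        simp
      rwa [h2] at h1
    haveI := hfd j
    haveI := hirrW j
    haveI := hirrF i
    haveI := hirrF j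
    exact d1_witness_unique p (P₀.subgroupOf N) (W j).ρ (F.ρ j) (F.ρ i) hP'card hidx hTI
      (fun y hy => htriv j y (Subgroup.mem_subgroupOf.1 hy))
      (fun y hy => htriv i y (Subgroup.mem_subgroupOf.1 hy))
      (W j).ι (W j).hom (W j).npr _ hι' hnp'
  · intro i hproj
    apply (W i).npr
    have h1 : d1_IsTrProj (W i).ρ N := d1_IsPr.mono le_top hproj
    have h2 : d1_IsTrProj ((W i).ρ.comp N.subtype) ⊤ := (d1_isTrProj_comp_subtype_iff N).2 h1
    exact h2.isPr_of_isHom' (W i).hom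

/-- **(Green count)** pairwise non-isomorphic simple modules of `N = N_G(P)` with trivial
`P`-action (`P` a Sylow subgroup of order `p = char k`) give pairwise non-isomorphic simple
`G`-modules which are not projective (in the trace sense). -/
theorem d1_green_family (P : Sylow p G) (hP : Nat.card P = p) {ι : Type*}
    (F : d1_Fam.{w} k (↥(Subgroup.normalizer ((P : Subgroup G) : Set G))) ι)
    (htriv : ∀ i (x : ↥(Subgroup.normalizer ((P : Subgroup G) : Set G))),
      (x : G) ∈ (P : Subgroup G) → F.ρ i x = LinearMap.id) :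
    ∃ F' : d1_Fam.{max u w} k G ι, ∀ i, ¬ d1_IsTrProj (F'.ρ i) ⊤ := by
  have hPN : (P : Subgroup G) ≤ Subgroup.normalizer ((P : Subgroup G) : Set G) :=
    Subgroup.le_normalizer
  haveI hPn : ((P : Subgroup G).subgroupOf (Subgroup.normalizer ((P : Subgroup G) : Set G))).Normal :=
    Subgroup.normal_in_normalizer
  have hidx : ¬ p ∣
      ((P : Subgroup G).subgroupOf (Subgroup.normalizer ((P : Subgroup G) : Set G))).index := by
    intro h
    have h1 : (P : Subgroup G).relIndex (Subgroup.normalizer ((P : Subgroup G) : Set G)) ∣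
        (P : Subgroup G).index := Subgroup.relIndex_dvd_index_of_le hPN
    exact P.not_dvd_index (h.trans h1)
  exact d1_green_family_aux p _ (P : Subgroup G) hPN hP hidx
    (fun g hg => d1_ti_normalizer_cast p P hP g hg) F htriv

end Family

end Cfsg.Agent.D1
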