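import Cfsg.Agent.D1.SimpleWitness
import Mathlib.RepresentationTheory.Coinduced

/-!
# D1 / Ind : every simple `N`-module with trivial `P`-action is seen by a simple `G`-module

Blueprint `notes/DefectOne_blueprint_helper7.md`, section 1.2 (start of the induction): the
coinduced module `{f : G → T | f (n g) = n f(g)}` contains `T` as an `N`-direct summand.
-/

set_option autoImplicit false

namespace Cfsg.Agent.D1

open Cfsg.Agent.BP Representation

universe u v

set_option linter.unusedSectionVars false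

variable {k : Type*} [Field k] {G : Type u} [Group G] [Finite G] {N : Subgroup G}
  {VT : Type v} [AddCommGroup VT] [Module k VT] (τ : Representation k ↥N VT)

open Classical in
/-- the function on `G` supported on `N` attached to `v`. -/
noncomputable def d1_coindFun (v : VT) : G → VT :=
  fun g => if h : g ∈ N then τ ⟨g, h⟩ v else 0

theorem d1_coindFun_of_mem (v : VT) {g : G} (hg : g ∈ N) : d1_coindFun τ v g = τ ⟨g, hg⟩ v := by
  unfold d1_coindFun
  rw [dif_pos hg]

theorem d1_coindFun_of_not_mem (v : VT) {g : G} (hg : g ∉ N) : d1_coindFun τ v g = 0 := by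
  unfold d1_coindFun
  rw [dif_neg hg]

theorem d1_coindFun_add (v w : VT) (g : G) :
    d1_coindFun τ (v + w) g = d1_coindFun τ v g + d1_coindFun τ w g := by
  by_cases hg : g ∈ N
  · rw [d1_coindFun_of_mem τ _ hg, d1_coindFun_of_mem τ _ hg, d1_coindFun_of_mem τ _ hg, map_add]
  · rw [d1_coindFun_of_not_mem τ _ hg, d1_coindFun_of_not_mem τ _ hg,
      d1_coindFun_of_not_mem τ _ hg, add_zero]

theorem d1_coindFun_smul (c : k) (v : VT) (g : G) :
    d1_coindFun τ (c • v) g = c • d1_coindFun τ v g := by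
  by_cases hg : g ∈ N
  · rw [d1_coindFun_of_mem τ _ hg, d1_coindFun_of_mem τ _ hg, map_smul]
  · rw [d1_coindFun_of_not_mem τ _ hg, d1_coindFun_of_not_mem τ _ hg, smul_zero]

theorem d1_coindFun_mul_left (v : VT) (n : ↥N) (g : G) :
    d1_coindFun τ v ((n : G) * g) = τ n (d1_coindFun τ v g) := by
  by_cases hg : g ∈ N
  · have hng : (n : G) * g ∈ N := N.mul_mem n.2 hg
    rw [d1_coindFun_of_mem τ _ hng, d1_coindFun_of_mem τ _ hg]
    have : (⟨(n : G) * g, hng⟩ : ↥N) = n * ⟨g, hg⟩ := rfl
    rw [this, map_mul]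
    rfl
  · have hng : (n : G) * g ∉ N := by
      intro h
      apply hg
      have : g = (n : G)⁻¹ * ((n : G) * g) := by simp
      rw [this]
      exact N.mul_mem (N.inv_mem n.2) h
    rw [d1_coindFun_of_not_mem τ _ hng, d1_coindFun_of_not_mem τ _ hg, map_zero]

theorem d1_coindFun_mul_right (v : VT) (g : G) (m : ↥N) :
    d1_coindFun τ v (g * (m : G)) = d1_coindFun τ (τ m v) g := by
  by_cases hg : g ∈ N
  · have hgm : g * (m : G) ∈ N := N.mul_mem hg m.2
    rw [d1_coindFun_of_mem τ _ hgm, d1_coindFun_of_mem τ _ hg]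
    have : (⟨g * (m : G), hgm⟩ : ↥N) = ⟨g, hg⟩ * m := rfl
    rw [this, map_mul]
    rfl
  · have hgm : g * (m : G) ∉ N := by
      intro h
      apply hg
      have : g = (g * (m : G)) * (m : G)⁻¹ := by simp
      rw [this]
      exact N.mul_mem h (N.inv_mem m.2)
    rw [d1_coindFun_of_not_mem τ _ hgm, d1_coindFun_of_not_mem τ _ hg]

/-- the embedding of `T` into the coinduced module: functions supported on `N`. -/
noncomputable def d1_coindIncl : VT →ₗ[k] coindV N.subtype τ where
  toFun v := ⟨d1_coindFun τ v, fun n g => d1_coindFun_mul_left τ v n g⟩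
  map_add' v w := by
    ext g
    exact d1_coindFun_add τ v w g
  map_smul' c v := by
    ext g
    exact d1_coindFun_smul τ c v g

theorem d1_coindIncl_apply (v : VT) (g : G) : (d1_coindIncl τ v).1 g = d1_coindFun τ v g := rfl

/-- evaluation at `1`. -/
def d1_coindEval : coindV N.subtype τ →ₗ[k] VT where
  toFun f := f.1 1
  map_add' _ _ := rfl
  map_smul' _ _ := rfl

theorem d1_coindEval_comp_incl : d1_coindEval τ ∘ₗ d1_coindIncl τ = LinearMap.id := by
  ext v
  show d1_coindFun τ v 1 = v
  rw [d1_coindFun_of_mem τ v N.one_mem]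
  have : (⟨1, N.one_mem⟩ : ↥N) = 1 := rfl
  rw [this, map_one]
  rfl

theorem d1_coindIncl_isHom :
    d1_IsHom τ ((coind N.subtype τ).comp N.subtype) ⊤ (d1_coindIncl τ) := by
  rw [d1_isHom_iff]
  intro m _
  ext v g
  show d1_coindFun τ (τ m v) g = d1_coindFun τ v (g * (m : G))
  rw [d1_coindFun_mul_right]

theorem d1_coindEval_isHom :
    d1_IsHom ((coind N.subtype τ).comp N.subtype) τ ⊤ (d1_coindEval τ) := by
  rw [d1_isHom_iff]
  intro m _
  ext f
  show f.1 (1 * (m : G)) = τ m (f.1 1)
  have := f.2 m 1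
  simpa using this

/-- **(M1), start**: a nonzero `N`-representation on which a subgroup `P ≤ N` of order `0` in `k`
acts trivially admits a non-projective `N`-map into a simple `G`-representation. -/
theorem d1_exists_witness_of_trivial [FiniteDimensional k VT] [Nontrivial VT] (P : Subgroup G)
    (hPN : P ≤ N) (hP0 : (Nat.card P : k) = 0)
    (htriv : ∀ x : ↥N, (x : G) ∈ P → τ x = LinearMap.id) :
    Nonempty (d1_Witness.{u, v, max u v} N τ) := by
  refine d1_exists_witness (coind N.subtype τ) (d1_coindIncl τ) (d1_coindIncl_isHom τ) ?_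
  intro hpr
  have h1 : d1_IsPr τ τ ⊤ (d1_coindEval τ ∘ₗ d1_coindIncl τ) := hpr.comp_left (d1_coindEval_isHom τ)
  rw [d1_coindEval_comp_incl] at h1
  have hcard : (Nat.card (P.subgroupOf N) : k) = 0 := by
    rw [Nat.card_congr (Subgroup.subgroupOfEquivOfLe hPN).toEquiv]
    exact hP0
  exact d1_not_isTrProj_of_trivial (ρ := τ) (P := P.subgroupOf N) le_top hcard
    (fun x hx => htriv x (Subgroup.mem_subgroupOf.1 hx)) h1

end Cfsg.Agent.D1
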