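import Cfsg.Agent.D1.Pr
import Cfsg.Agent.BP.RelTraceB

/-!
# D1 / PrB : (T3) trivial action of a `p`-subgroup kills projective maps, (T5) TI-Mackey,
restriction to a subgroup regarded as a group.

Blueprint `notes/DefectOne_blueprint_helper7.md`, section 1.1.
-/

set_option autoImplicit false

namespace Cfsg.Agent.D1

open Cfsg.Agent.BP Representation

set_option linter.unusedSectionVars false

variable {k : Type*} [Field k] {G : Type*} [Group G] [Finite G]
  {V W X : Type*} [AddCommGroup V] [Module k V] [AddCommGroup W] [Module k W]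
  [AddCommGroup X] [Module k X]
  {ρ : Representation k G V} {σ : Representation k G W} {θ : Representation k G X}

/-- (T3) if a subgroup `P ≤ H` whose order is `0` in `k` acts trivially on source and target, the only
`H`-projective map is `0`. -/
theorem d1_isPr_eq_zero_of_trivial {P H : Subgroup G} (hPH : P ≤ H)
    (hP : (Nat.card P : k) = 0) (hV : ∀ x ∈ P, ρ x = LinearMap.id)
    (hW : ∀ x ∈ P, σ x = LinearMap.id) {f : V →ₗ[k] W} (hf : d1_IsPr ρ σ H f) : f = 0 := by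
  obtain ⟨φ, rfl⟩ := hf
  rw [d1_tr1_eq_trT_tr1 (bp_transv_isLT hPH)]
  have h1 : d1_tr1 ρ σ P φ = 0 := by
    have hfix : d1_IsFix (linHom ρ σ) P φ := by
      intro x hx
      rw [linHom_apply, hW x hx, hV x⁻¹ (P.inv_mem hx)]
      rfl
    unfold d1_tr1
    rw [d1_trT_of_isFix (d1_elems_isLT P) hfix, d1_card_elems, hP, zero_smul]
  rw [h1, d1_trT_zero]

/-- a nonzero representation on which a subgroup `P ≤ H` of order `0` in `k` acts trivially is not
`H`-projective. -/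
theorem d1_not_isTrProj_of_trivial [Nontrivial V] {P H : Subgroup G} (hPH : P ≤ H)
    (hP : (Nat.card P : k) = 0) (hV : ∀ x ∈ P, ρ x = LinearMap.id) : ¬ d1_IsTrProj ρ H := by
  intro h
  have h0 := d1_isPr_eq_zero_of_trivial hPH hP hV hV h
  obtain ⟨v, hv⟩ := exists_ne (0 : V)
  exact hv (by simpa using LinearMap.congr_fun h0 v)

/-- (T5) **TI-Mackey**: if `N ∩ gNg⁻¹` has invertible order for every `g ∉ N`, then for every
`N`-endomorphism `a` of a `G`-representation, `Tr_N^G a - a` is `N`-projective. -/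
theorem d1_ti_mackey {N : Subgroup G}
    (hTI : ∀ g : G, g ∉ N → (Nat.card ↥(N ⊓ N.map (MulAut.conj g).toMonoidHom) : k) ≠ 0)
    {a : V →ₗ[k] W} (ha : d1_IsHom ρ σ N a) {T : Finset G} (hT : bp_IsLT T N ⊤) :
    d1_IsPr ρ σ N (d1_trT (linHom ρ σ) T a - a) := by
  classical
  set X₀ := bp_dcReps N N (⊤ : Subgroup G) with hX₀
  have hX : bp_IsDC X₀ N N ⊤ := bp_dcReps_isDC le_top le_top
  set Tx : G → Finset G := fun x => bp_transv (N ⊓ N.map (MulAut.conj x).toMonoidHom) N with hTx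
  have hTxLT : ∀ x ∈ X₀, bp_IsLT (Tx x) (N ⊓ N.map (MulAut.conj x).toMonoidHom) N :=
    fun x _ => bp_transv_isLT inf_le_left
  rw [d1_mackey le_top le_top hX hT Tx hTxLT ha]
  -- the representative of the trivial double coset
  obtain ⟨x₀, ⟨hx₀X, l₀, hl₀, k₀, hk₀, e₀⟩, hx₀uniq⟩ := hX.uniq 1 (Subgroup.mem_top 1)
  have hx₀N : x₀ ∈ N := by
    have : x₀ = l₀⁻¹ * 1 * k₀⁻¹ := by rw [e₀]; group
    rw [this]
    exact N.mul_mem (N.mul_mem (N.inv_mem hl₀) N.one_mem) (N.inv_mem hk₀)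
  have hother : ∀ x ∈ X₀, x ≠ x₀ → x ∉ N := by
    intro x hx hne hxN
    exact hne (hx₀uniq x ⟨hx, 1, N.one_mem, x⁻¹, N.inv_mem hxN, by group⟩)
  rw [← Finset.add_sum_erase X₀ _ hx₀X]
  have hmain : d1_trT (linHom ρ σ) (Tx x₀) (linHom ρ σ x₀ a) = a := by
    have hfix : d1_IsFix (linHom ρ σ) N (linHom ρ σ x₀ a) := by
      rw [ha x₀ hx₀N]; exact ha
    have hEq : N ⊓ N.map (MulAut.conj x₀).toMonoidHom = N := by
      apply le_antisymm inf_le_left
      intro n hn
      refine Subgroup.mem_inf.2 ⟨hn, (bp_mem_map_conj _ _ _).2 ?_⟩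
      exact N.mul_mem (N.mul_mem (N.inv_mem hx₀N) hn) hx₀N
    have hLT := hTxLT x₀ hx₀X
    rw [hEq] at hLT
    rw [d1_trT_self hLT hfix, ha x₀ hx₀N]
  rw [hmain, add_sub_cancel_left]
  refine d1_isPr_sum _ _ (fun x hx => ?_)
  obtain ⟨hxne, hxX⟩ := Finset.mem_erase.1 hx
  have hxN := hother x hxX hxne
  refine d1_isPr_trT (hTxLT x hxX) (hTI x hxN) ?_
  exact d1_IsFix.mono inf_le_right (d1_IsFix.conj ha x)

/-! ### restriction to a subgroup regarded as a group -/

section Restrict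

variable (N : Subgroup G)

theorem d1_isHom_comp_subtype_iff {f : V →ₗ[k] W} :
    d1_IsHom (ρ.comp N.subtype) (σ.comp N.subtype) ⊤ f ↔ d1_IsHom ρ σ N f := by
  rw [d1_isHom_iff, d1_isHom_iff]
  constructor
  · intro h n hn
    exact h ⟨n, hn⟩ (Subgroup.mem_top _)
  · intro h n _
    exact h n n.2

theorem d1_tr1_comp_subtype (φ : V →ₗ[k] W) :
    d1_tr1 (ρ.comp N.subtype) (σ.comp N.subtype) ⊤ φ = d1_tr1 ρ σ N φ := by
  unfold d1_tr1 d1_trT
  refine Finset.sum_bij (fun n _ => (n : G)) ?_ ?_ ?_ ?_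
  · intro n _
    rw [d1_mem_elems]
    exact n.2
  · intro a _ b _ e
    exact Subtype.ext e
  · intro b hb
    rw [d1_mem_elems] at hb
    exact ⟨⟨b, hb⟩, by simp, rfl⟩
  · intro n _
    rfl

theorem d1_isPr_comp_subtype_iff {f : V →ₗ[k] W} :
    d1_IsPr (ρ.comp N.subtype) (σ.comp N.subtype) ⊤ f ↔ d1_IsPr ρ σ N f := by
  unfold d1_IsPr
  simp_rw [d1_tr1_comp_subtype]

theorem d1_isTrProj_comp_subtype_iff :
    d1_IsTrProj (ρ.comp N.subtype) ⊤ ↔ d1_IsTrProj ρ N :=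
  d1_isPr_comp_subtype_iff N

end Restrict

/-- a representation whose restriction to a subgroup of invertible index is projective is
projective. -/
theorem d1_isTrProj_of_index {N : Subgroup G} (hidx : (N.index : k) ≠ 0)
    (h : d1_IsTrProj ρ N) : d1_IsTrProj ρ ⊤ := by
  obtain ⟨φ, hφ⟩ := h
  have hT : bp_IsLT (bp_transv N ⊤) N ⊤ := bp_transv_isLT le_top
  refine ⟨(N.index : k)⁻¹ • φ, ?_⟩
  rw [d1_tr1_eq_trT_tr1 hT]
  have h1 : d1_tr1 ρ ρ N ((N.index : k)⁻¹ • φ) = (N.index : k)⁻¹ • LinearMap.id := by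
    unfold d1_tr1 at hφ ⊢
    rw [d1_trT_smul, ← hφ]
  rw [h1, d1_trT_smul, d1_trT_of_isFix hT (d1_isHom_id ⊤)]
  have hc : ((bp_transv N (⊤ : Subgroup G)).card : k) = (N.index : k) := by
    rw [hT.card_eq_relIndex, Subgroup.relIndex_top_right]
  rw [hc, smul_smul, inv_mul_cancel₀ hidx, one_smul]

end Cfsg.Agent.D1
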