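import Cfsg.Agent.D1.PrB

/-!
# D1 / SimpleWitness : (M1) a non-projective `N`-map into a `G`-module survives in a simple
subquotient

Blueprint `notes/DefectOne_blueprint_helper7.md`, section 1.2.
-/

set_option autoImplicit false

namespace Cfsg.Agent.D1

open Cfsg.Agent.BP Representation

universe u v w

variable {k : Type*} [Field k] {G : Type u} [Group G] [Finite G] (N : Subgroup G)
  {VT : Type v} [AddCommGroup VT] [Module k VT] (τ : Representation k ↥N VT)

/-- a simple `G`-representation `S` (in universe `w`) together with an `N`-map `τ → S|_N` which is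
not `N`-projective. -/
structure d1_Witness : Type (max u v (w + 1) u_1) where
  S : Type w
  [acg : AddCommGroup S]
  [mod : Module k S]
  [fd : FiniteDimensional k S]
  ρ : Representation k G S
  irr : ρ.IsIrreducible
  ι : VT →ₗ[k] S
  hom : d1_IsHom τ (ρ.comp N.subtype) ⊤ ι
  npr : ¬ d1_IsPr τ (ρ.comp N.subtype) ⊤ ι

variable {N τ}

/-- **(M1)** induction on the dimension. -/
theorem d1_exists_witness_aux (n : ℕ) : ∀ (X : Type w) [AddCommGroup X] [Module k X]
    [FiniteDimensional k X] (ρX : Representation k G X) (ι : VT →ₗ[k] X),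
    Module.finrank k X = n → d1_IsHom τ (ρX.comp N.subtype) ⊤ ι →
    ¬ d1_IsPr τ (ρX.comp N.subtype) ⊤ ι → Nonempty (d1_Witness.{u, v, w} N τ) := by
  induction n using Nat.strong_induction_on with
  | _ n ih =>
  intro X _ _ _ ρX ι hn hι hnp
  by_cases hirr : ρX.IsIrreducible
  · exact ⟨⟨X, ρX, hirr, ι, hι, hnp⟩⟩
  -- `X` is nontrivial
  have hnt : Nontrivial X := by
    by_contra h
    rw [not_nontrivial_iff_subsingleton] at h
    apply hnp
    have : ι = 0 := by
      ext v
      exact Subsingleton.elim _ _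
    rw [this]
    exact d1_isPr_zero _
  -- a proper nonzero subrepresentation
  have hex : ∃ Y : Subrepresentation ρX, Y ≠ ⊥ ∧ Y ≠ ⊤ := by
    by_contra h
    push Not at h
    apply hirr
    have hne : (⊥ : Subrepresentation ρX) ≠ ⊤ := by
      intro e
      have h1 : (⊥ : Subrepresentation ρX).toSubmodule = (⊤ : Subrepresentation ρX).toSubmodule := by
        rw [e]
      obtain ⟨x, hx⟩ := exists_ne (0 : X)
      have h2 : x ∈ (⊤ : Subrepresentation ρX).toSubmodule := Submodule.mem_top
      rw [← h1] at h2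
      exact hx ((Submodule.mem_bot k).1 h2)
    have : Nontrivial (Subrepresentation ρX) := ⟨⟨⊥, ⊤, hne⟩⟩
    exact ⟨fun a => by
      by_cases ha : a = ⊥
      · exact Or.inl ha
      · exact Or.inr (h a ha)⟩
  obtain ⟨Y, hY0, hY1⟩ := hex
  have hYbot : Y.toSubmodule ≠ ⊥ := fun e => hY0 (Subrepresentation.toSubmodule_injective e)
  have hYtop : Y.toSubmodule ≠ ⊤ := fun e => hY1 (Subrepresentation.toSubmodule_injective e)
  have hle : ∀ g, Y.toSubmodule ≤ Y.toSubmodule.comap (ρX g) :=
    fun g v hv => Y.apply_mem_toSubmodule g hv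
  set ρQ := ρX.quotient Y.toSubmodule hle with hρQ
  set q : X →ₗ[k] X ⧸ Y.toSubmodule := Y.toSubmodule.mkQ with hq
  have hqhom : d1_IsHom (ρX.comp N.subtype) (ρQ.comp N.subtype) ⊤ q := by
    rw [d1_isHom_iff]
    intro h _
    ext v
    simp [hρQ, hq]
  by_cases hcase : d1_IsPr τ (ρQ.comp N.subtype) ⊤ (q ∘ₗ ι)
  · -- the map lands, up to a projective map, in `Y`
    obtain ⟨ψ, hψ⟩ := hcase
    obtain ⟨s, hs⟩ := LinearMap.exists_rightInverse_of_surjective q
      (LinearMap.range_eq_top.2 (Submodule.mkQ_surjective _))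
    set ψ' : VT →ₗ[k] X := s ∘ₗ ψ with hψ'
    set ι₁ : VT →ₗ[k] X := ι - d1_tr1 τ (ρX.comp N.subtype) ⊤ ψ' with hι₁
    have hι₁hom : d1_IsHom τ (ρX.comp N.subtype) ⊤ ι₁ := hι.sub (d1_tr1_isHom _ _)
    have hqι₁ : q ∘ₗ ι₁ = 0 := by
      rw [hι₁, LinearMap.comp_sub, ← d1_tr1_comp_left hqhom, hψ, hψ', ← LinearMap.comp_assoc, hs,
        LinearMap.id_comp, sub_self]
    have hmem : ∀ v, ι₁ v ∈ Y.toSubmodule := by
      intro v
      have := LinearMap.congr_fun hqι₁ v
      simpa [hq] using this
    set ι₂ : VT →ₗ[k] Y.toSubmodule := ι₁.codRestrict Y.toSubmodule hmem with hι₂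
    set ρY := Y.toRepresentation with hρY
    set j : Y.toSubmodule →ₗ[k] X := Y.toSubmodule.subtype with hj
    have hjhom : d1_IsHom (ρY.comp N.subtype) (ρX.comp N.subtype) ⊤ j := by
      rw [d1_isHom_iff]
      intro h _
      ext v
      rfl
    have hjι₂ : j ∘ₗ ι₂ = ι₁ := by
      ext v
      rfl
    have hι₂hom : d1_IsHom τ (ρY.comp N.subtype) ⊤ ι₂ := by
      rw [d1_isHom_iff]
      intro h hh
      ext v
      have := d1_isHom_apply hι₁hom hh v
      simpa [hι₂, hρY, Subrepresentation.toRepresentation] using this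
    have hι₂np : ¬ d1_IsPr τ (ρY.comp N.subtype) ⊤ ι₂ := by
      intro hpr
      apply hnp
      have h1 : d1_IsPr τ (ρX.comp N.subtype) ⊤ ι₁ := by
        rw [← hjι₂]
        exact hpr.comp_left hjhom
      have h2 : ι = ι₁ + d1_tr1 τ (ρX.comp N.subtype) ⊤ ψ' := by
        rw [hι₁]; abel
      rw [h2]
      exact h1.add ⟨ψ', rfl⟩
    have hlt : Module.finrank k Y.toSubmodule < n := by
      rw [← hn]
      exact Submodule.finrank_lt hYtop
    exact ih _ hlt Y.toSubmodule ρY ι₂ rfl hι₂hom hι₂np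
  · -- the quotient sees the map
    have hlt : Module.finrank k (X ⧸ Y.toSubmodule) < n := by
      rw [← hn]
      have h1 := Submodule.finrank_quotient_add_finrank Y.toSubmodule
      have h2 : 0 < Module.finrank k Y.toSubmodule := by
        rw [Nat.pos_iff_ne_zero]
        intro e
        exact hYbot (Submodule.finrank_eq_zero.1 e)
      omega
    exact ih _ hlt (X ⧸ Y.toSubmodule) ρQ (q ∘ₗ ι) rfl (hι.comp hqhom) hcase

/-- **(M1)** if an `N`-map from `τ` into the restriction of a finite-dimensional `G`-representation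
is not `N`-projective, then there is such a map into a simple `G`-representation. -/
theorem d1_exists_witness {X : Type w} [AddCommGroup X] [Module k X] [FiniteDimensional k X]
    (ρX : Representation k G X) (ι : VT →ₗ[k] X) (hι : d1_IsHom τ (ρX.comp N.subtype) ⊤ ι)
    (hnp : ¬ d1_IsPr τ (ρX.comp N.subtype) ⊤ ι) : Nonempty (d1_Witness.{u, v, w} N τ) :=
  d1_exists_witness_aux _ X ρX ι rfl hι hnp

end Cfsg.Agent.D1
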