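import Cfsg.Agent.BP.RelTrace

/-!
# D1 / Tr : relative traces for an arbitrary representation, Mackey formula

Blueprint `notes/DefectOne_blueprint_helper7.md`, section 1.1.  `τ : Representation k G A` is any
representation (later `A = Hom_k(V, W)` with the conjugation action `Representation.linHom`).
Transversals are the finsets of `BP/RelTrace` (`bp_IsLT`, `bp_transv`, `bp_IsDC`, `bp_dcReps`).
-/

set_option autoImplicit false

namespace Cfsg.Agent.D1

open Cfsg.Agent.BP

variable {k : Type*} [CommRing k] {G : Type*} [Group G] {A : Type*} [AddCommGroup A] [Module k A]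
  (τ : Representation k G A)

/-- `a` is fixed by the subgroup `H`. -/
def d1_IsFix (H : Subgroup G) (a : A) : Prop := ∀ h ∈ H, τ h a = a

/-- the sum of the translates of `a` by the elements of a finset. -/
def d1_trT (T : Finset G) (a : A) : A := ∑ t ∈ T, τ t a

variable {τ}

theorem d1_IsFix.mono {K H : Subgroup G} (hKH : K ≤ H) {a : A} (ha : d1_IsFix τ H a) :
    d1_IsFix τ K a := fun h hh => ha h (hKH hh)

theorem d1_IsFix.add {H : Subgroup G} {a b : A} (ha : d1_IsFix τ H a) (hb : d1_IsFix τ H b) :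
    d1_IsFix τ H (a + b) := fun h hh => by rw [map_add, ha h hh, hb h hh]

theorem d1_IsFix.smul {H : Subgroup G} {a : A} (c : k) (ha : d1_IsFix τ H a) :
    d1_IsFix τ H (c • a) := fun h hh => by rw [map_smul, ha h hh]

theorem d1_IsFix.sub {H : Subgroup G} {a b : A} (ha : d1_IsFix τ H a) (hb : d1_IsFix τ H b) :
    d1_IsFix τ H (a - b) := fun h hh => by rw [map_sub, ha h hh, hb h hh]

theorem d1_isFix_zero (H : Subgroup G) : d1_IsFix τ H (0 : A) := fun _ _ => map_zero _

theorem d1_isFix_bot (a : A) : d1_IsFix τ (⊥ : Subgroup G) a := by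
  intro h hh
  rw [Subgroup.mem_bot] at hh
  subst hh
  simp

theorem d1_mul_apply (g h : G) (a : A) : τ (g * h) a = τ g (τ h a) := by
  rw [map_mul]; rfl

/-- translating a fixed point: `g • a` is fixed by `g H g⁻¹`. -/
theorem d1_IsFix.conj {H : Subgroup G} {a : A} (ha : d1_IsFix τ H a) (g : G) :
    d1_IsFix τ (H.map (MulAut.conj g).toMonoidHom) (τ g a) := by
  intro h hh
  rw [bp_mem_map_conj] at hh
  have := ha _ hh
  rw [← d1_mul_apply]
  have e : h * g = g * (g⁻¹ * h * g) := by group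
  rw [e, d1_mul_apply, this]

/-- the value `τ x a` only depends on the coset `x K` when `a` is `K`-fixed. -/
theorem d1_apply_mul_of_fix {K : Subgroup G} {a : A} (ha : d1_IsFix τ K a) (x : G) {y : G}
    (hy : y ∈ K) : τ (x * y) a = τ x a := by
  rw [d1_mul_apply, ha y hy]

/-- the trace can be computed with any left transversal. -/
theorem d1_trT_eq {T T' : Finset G} {K H : Subgroup G} (hT : bp_IsLT T K H)
    (hT' : bp_IsLT T' K H) {a : A} (ha : d1_IsFix τ K a) : d1_trT τ T a = d1_trT τ T' a :=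
  bp_sum_transversal_eq hT hT' (fun x => τ x a) (fun x _ hy => d1_apply_mul_of_fix ha x hy)

/-- the trace of a `K`-fixed element over a transversal of `K` in `H` is `H`-fixed. -/
theorem d1_trT_isFix {T : Finset G} {K H : Subgroup G} (hT : bp_IsLT T K H) {a : A}
    (ha : d1_IsFix τ K a) : d1_IsFix τ H (d1_trT τ T a) := by
  classical
  intro h hh
  have h1 : τ h (d1_trT τ T a) = d1_trT τ (T.image (fun t => h * t)) a := by
    unfold d1_trT
    rw [map_sum, Finset.sum_image (fun x _ y _ e => mul_left_cancel e)]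
    exact Finset.sum_congr rfl (fun t _ => (d1_mul_apply h t a).symm)
  rw [h1]
  exact d1_trT_eq (hT.mul_left hh) hT ha

theorem d1_trT_add (T : Finset G) (a b : A) : d1_trT τ T (a + b) = d1_trT τ T a + d1_trT τ T b := by
  simp [d1_trT, Finset.sum_add_distrib]

theorem d1_trT_smul (T : Finset G) (c : k) (a : A) : d1_trT τ T (c • a) = c • d1_trT τ T a := by
  simp [d1_trT, Finset.smul_sum]

theorem d1_trT_sub (T : Finset G) (a b : A) : d1_trT τ T (a - b) = d1_trT τ T a - d1_trT τ T b := by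
  simp [d1_trT, Finset.sum_sub_distrib]

theorem d1_trT_zero (T : Finset G) : d1_trT τ T (0 : A) = 0 := by simp [d1_trT]

/-- the trace from `H` to `H` is the identity. -/
theorem d1_trT_self {T : Finset G} {H : Subgroup G} (hT : bp_IsLT T H H) {a : A}
    (ha : d1_IsFix τ H a) : d1_trT τ T a = a := by
  have h1 : bp_IsLT ({1} : Finset G) H H := by
    refine ⟨le_rfl, ?_, ?_⟩
    · intro t ht
      rw [Finset.mem_singleton.1 ht]
      exact H.one_mem
    · intro h hh
      refine ⟨1, ⟨Finset.mem_singleton_self 1, by simpa using hh⟩, ?_⟩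
      rintro y ⟨hy, _⟩
      exact Finset.mem_singleton.1 hy
  rw [d1_trT_eq hT h1 ha]
  simp [d1_trT]

/-- transitivity of traces. -/
theorem d1_trT_trans {T U : Finset G} {L K H : Subgroup G} (hT : bp_IsLT T K H)
    (hU : bp_IsLT U L K) {W : Finset G} (hW : bp_IsLT W L H) {a : A} (ha : d1_IsFix τ L a) :
    d1_trT τ W a = d1_trT τ T (d1_trT τ U a) := by
  classical
  rw [d1_trT_eq hW (hT.mul hU) ha]
  unfold d1_trT
  rw [Finset.sum_image (hT.mul_injOn hU), Finset.sum_product]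
  refine Finset.sum_congr rfl (fun t _ => ?_)
  rw [map_sum]
  exact Finset.sum_congr rfl (fun u _ => d1_mul_apply t u a)

/-- the trace of an `H`-fixed element is multiplication by the index. -/
theorem d1_trT_of_isFix {T : Finset G} {K H : Subgroup G} (hT : bp_IsLT T K H) {a : A}
    (ha : d1_IsFix τ H a) : d1_trT τ T a = (T.card : k) • a := by
  unfold d1_trT
  rw [Finset.sum_congr rfl (fun t ht => ha t (hT.mem t ht)), Finset.sum_const, ← Nat.cast_smul_eq_nsmul k]

/-- **Mackey formula**: `X` double coset representatives of `L \ H / K`, `a` fixed by `K`: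
`Tr_K^H a = ∑_{x ∈ X} Tr_{L ∩ xKx⁻¹}^L (x a)`, for any choice of transversals. -/
theorem d1_mackey {K L H : Subgroup G} (hK : K ≤ H) (hL : L ≤ H) {X : Finset G}
    (hX : bp_IsDC X L K H) {T : Finset G} (hT : bp_IsLT T K H) (Tx : G → Finset G)
    (hTx : ∀ x ∈ X, bp_IsLT (Tx x) (L ⊓ K.map (MulAut.conj x).toMonoidHom) L)
    {a : A} (ha : d1_IsFix τ K a) :
    d1_trT τ T a = ∑ x ∈ X, d1_trT τ (Tx x) (τ x a) := by
  classical
  set S : Finset (G × G) := X.sigma (fun x => Tx x) |>.image (fun p => (p.1, p.2)) with hS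
  have hSmem : ∀ p : G × G, p ∈ S ↔ p.1 ∈ X ∧ p.2 ∈ Tx p.1 := by
    rintro ⟨x, t⟩
    simp only [hS, Finset.mem_image, Finset.mem_sigma]
    constructor
    · rintro ⟨⟨x', t'⟩, ⟨h1, h2⟩, e⟩
      simp only [Prod.mk.injEq] at e
      obtain ⟨rfl, rfl⟩ := e
      exact ⟨h1, h2⟩
    · rintro ⟨h1, h2⟩
      exact ⟨⟨x, t⟩, ⟨h1, h2⟩, rfl⟩
  have hinj : Set.InjOn (fun p : G × G => p.2 * p.1) (S : Set (G × G)) := by
    rintro ⟨x, t⟩ hp ⟨x', t'⟩ hp' e
    rw [Finset.mem_coe, hSmem] at hp hp'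
    simp only at e hp hp'
    have htL : t ∈ L := (hTx x hp.1).mem t hp.2
    have ht'L : t' ∈ L := (hTx x' hp'.1).mem t' hp'.2
    have hxx' : x = x' := by
      obtain ⟨y, _, hy⟩ := hX.uniq (t * x) (H.mul_mem (hL htL) (hX.mem x hp.1))
      have h1 := hy x ⟨hp.1, t, htL, 1, K.one_mem, by simp⟩
      have h2 := hy x' ⟨hp'.1, t', ht'L, 1, K.one_mem, by rw [e]; simp⟩
      rw [h1, h2]
    subst hxx'
    have : t = t' := mul_right_cancel e
    rw [this]
  have hLT : bp_IsLT (S.image (fun p => p.2 * p.1)) K H := by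
    refine ⟨hK, ?_, ?_⟩
    · intro y hy
      obtain ⟨⟨x, t⟩, hp, rfl⟩ := Finset.mem_image.1 hy
      rw [hSmem] at hp
      exact H.mul_mem (hL ((hTx x hp.1).mem t hp.2)) (hX.mem x hp.1)
    · intro h hh
      obtain ⟨x, ⟨hxX, l, hl, k', hk, e⟩, hxuniq⟩ := hX.uniq h hh
      obtain ⟨t, ⟨htT, htK⟩, htuniq⟩ := (hTx x hxX).uniq l hl
      have h1 : (t * x)⁻¹ * h ∈ K := by
        have h3 := (bp_mem_map_conj x K _).1 htK.2
        have : (t * x)⁻¹ * h = (x⁻¹ * (t⁻¹ * l) * x) * k' := by rw [e]; group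
        rw [this]; exact K.mul_mem h3 hk
      refine ⟨t * x, ⟨Finset.mem_image.2 ⟨(x, t), (hSmem _).2 ⟨hxX, htT⟩, rfl⟩, h1⟩, ?_⟩
      rintro y ⟨hy, hyK⟩
      obtain ⟨⟨x', t'⟩, hp, rfl⟩ := Finset.mem_image.1 hy
      rw [hSmem] at hp
      simp only at hp hyK ⊢
      have ht'L : t' ∈ L := (hTx x' hp.1).mem t' hp.2
      have hx' : x' = x := hxuniq x' ⟨hp.1, t', ht'L, ((t' * x')⁻¹ * h), hyK, by group⟩
      subst hx'
      have h4 : t'⁻¹ * l ∈ L ⊓ K.map (MulAut.conj x').toMonoidHom := by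
        refine Subgroup.mem_inf.2 ⟨L.mul_mem (L.inv_mem ht'L) hl, (bp_mem_map_conj _ _ _).2 ?_⟩
        have : x'⁻¹ * (t'⁻¹ * l) * x' = ((t' * x')⁻¹ * h) * k'⁻¹ := by rw [e]; group
        rw [this]; exact K.mul_mem hyK (K.inv_mem hk)
      have : t' = t := htuniq t' ⟨hp.2, h4⟩
      rw [this]
  rw [d1_trT_eq hT hLT ha]
  unfold d1_trT
  rw [Finset.sum_image hinj]
  have hsum : ∑ p ∈ S, τ (p.2 * p.1) a = ∑ x ∈ X, ∑ t ∈ Tx x, τ (t * x) a := by
    rw [hS, Finset.sum_image, Finset.sum_sigma]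
    rintro ⟨x, t⟩ _ ⟨x', t'⟩ _ e
    simp only [Prod.mk.injEq] at e
    obtain ⟨rfl, rfl⟩ := e
    rfl
  rw [hsum]
  refine Finset.sum_congr rfl (fun x _ => ?_)
  exact Finset.sum_congr rfl (fun t _ => d1_mul_apply t x a)

end Cfsg.Agent.D1
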